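import Groth.Agent.Lib.MTBridge.ClosedSub
import Mathlib.AlgebraicGeometry.Limits

/-!
Groups of multiplicative type over affine bases, as schemes and as Hopf algebras.
-/

set_option autoImplicit false
set_option linter.style.haveILetI false

universe u

open CategoryTheory CategoryTheory.Limits MonoidalCategory CartesianMonoidalCategory MonObj GrpObj AlgebraicGeometry
open Groth.Agent.Lib.Tori
open scoped TensorProduct

namespace Groth.Agent.Lib.MTBridge

noncomputable section

/-- A finitely generated commutative group is isomorphic to a group in `Type`. -/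
theorem exists_small (M : Type u) [CommGroup M] [Group.FG M] :
    ∃ (M₀ : Type) (_ : AddCommGroup M₀), AddGroup.FG M₀ ∧ Nonempty (M ≃* Multiplicative M₀) := by
  haveI : AddGroup.FG (Additive M) := inferInstance
  obtain ⟨n, κ, _, p, -, e, ⟨f⟩⟩ := AddCommGroup.equiv_free_prod_directSum_zmod (Additive M)
  refine ⟨_, inferInstance, AddGroup.fg_of_surjective (f := f.toAddMonoidHom) f.surjective,
    ⟨{ toFun := fun m => Multiplicative.ofAdd (f (Additive.ofMul m))
       invFun := fun m => (f.symm m.toAdd).toMul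
       left_inv := fun m => by simp
       right_inv := fun m => by simp
       map_mul' := fun a b => by simp [ofMul_mul, ofAdd_add] }⟩⟩

variable {R : Type u} [CommRing R]

/-- An isomorphism of the groups gives an isomorphism of Hopf algebras. -/
theorem exists_equiv_of_grpIso {A B : Type u} [CommRing A] [HopfAlgebra R A] [CommRing B] [HopfAlgebra R B]
    (e : Grp.mk (GA R A) ≅ Grp.mk (GA R B)) : Nonempty (B ≃ₐc[R] A) := by
  obtain ⟨π, hπ⟩ := exists_bialgHom (BaseChange.overIso e).hom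
  obtain ⟨π', hπ'⟩ := exists_bialgHom (BaseChange.overIso e).inv
  have h1 : CommRingCat.ofHom (π' : A →+* B) ≫ CommRingCat.ofHom (π : B →+* A) = 𝟙 _ := Spec.map_injective
    ((Spec.map_comp _ _).trans ((congrArg₂ (fun a b => a ≫ b) hπ.symm hπ'.symm).trans
      ((congrArg (fun f : GA R A ⟶ GA R A => f.left) (BaseChange.overIso e).hom_inv_id).trans (Spec.map_id _).symm)))
  have h2 : CommRingCat.ofHom (π : B →+* A) ≫ CommRingCat.ofHom (π' : A →+* B) = 𝟙 _ := Spec.map_injective
    ((Spec.map_comp _ _).trans ((congrArg₂ (fun a b => a ≫ b) hπ'.symm hπ.symm).trans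
      ((congrArg (fun f : GA R B ⟶ GA R B => f.left) (BaseChange.overIso e).inv_hom_id).trans (Spec.map_id _).symm)))
  exact ⟨BialgEquiv.ofBialgHom π π' (BialgHom.ext fun x => congr($(h1).hom x)) (BialgHom.ext fun x => congr($(h2).hom x))⟩

/-- A splitting over an affine scheme over the base gives a diagonalisation. -/
theorem isDiag_of_chart {C : Type u} [CommRing C] [HopfAlgebra R C] (T : Type u) [CommRing T] [Algebra R T]
    {M : Type} [AddCommGroup M]
    (e : Grp.mk (Red.bc (Spec.map (CommRingCat.ofHom (algebraMap R T))) (GA R C)) ≅ Grp.mk (Red.DS (Spec (CommRingCat.of T)) M)) :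
    SGA3b.IsDiag T (T ⊗[R] C) := by
  obtain ⟨q⟩ := exists_equiv_of_grpIso ((bcSpec T).symm ≪≫ e ≪≫ dsSpec T M)
  obtain ⟨w⟩ := exists_ulift.{u} T (Multiplicative M)
  exact ⟨ULift.{u} (Multiplicative M), inferInstance, ⟨q.symm.trans w.symm⟩⟩

/-- Over a field, scheme theoretic multiplicative type gives multiplicative type of the Hopf algebra. -/
theorem isMultType_of_field {K : Type u} [Field K] {C : Type u} [CommRing C] [HopfAlgebra K C]
    {H : Over (Spec (CommRingCat.of K))} [GrpObj H] (hH : SGA3x.IsMultTypeFT H) (e : Grp.mk (GA K C) ≅ Grp.mk H) :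
    SGA3b.IsMultType K C := by
  obtain ⟨S', f, -, hs, -, hloc⟩ := hH
  obtain ⟨s', -⟩ := hs.surj (⟨⊥, Ideal.isPrime_bot⟩ : PrimeSpectrum K)
  obtain ⟨U, hU, M, _, -, ⟨c⟩⟩ := hloc s'
  obtain ⟨V, hV, hsV, hVU⟩ := exists_isAffineOpen_mem_and_subset (X := S') (x := s') (U := U) hU
  let k : Spec Γ(S', V) ⟶ (U : Scheme.{u}) := IsOpenImmersion.lift U.ι hV.fromSpec (by
    rw [Scheme.Opens.range_ι, hV.range_fromSpec]
    exact hVU)
  let T : Type u := Γ(S', V)
  let φ : CommRingCat.of K ⟶ CommRingCat.of T := Spec.preimage (k ≫ U.ι ≫ f)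
  letI : Algebra K T := φ.hom.toAlgebra
  haveI : Nontrivial T := by
    obtain ⟨y, -⟩ : s' ∈ Set.range hV.fromSpec.base := by rw [hV.range_fromSpec]; exact hsV
    exact (PrimeSpectrum.nonempty_iff_nontrivial (R := T)).mp ⟨y⟩
  have hφ : Spec.map (CommRingCat.ofHom (algebraMap K T)) = k ≫ U.ι ≫ f := Spec.map_preimage _
  exact Groth.Agent.H83.MultType.isMultType_of_diag T (isDiag_of_chart T (BaseChange.bcMapIso _ e ≪≫
    BaseChange.bcCongr hφ H ≪≫ Groth.Agent.H87.Charts.resChart c k))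

set_option maxHeartbeats 800000 in
set_option synthInstance.maxHeartbeats 200000 in
/-- A chart near a point from multiplicative type of a Hopf algebra. -/
theorem exists_chart_of_multType {C : Type u} [CommRing C] [HopfAlgebra R C] [Algebra.FiniteType R C]
    (h : SGA3b.IsMultType R C) (x : PrimeSpectrum R) :
    ∃ (T : Type u) (_ : CommRing T) (_ : Algebra R T) (M : Type) (_ : AddCommGroup M), AddGroup.FG M ∧
      Module.Flat R T ∧ IsOpen (Set.range (PrimeSpectrum.comap (algebraMap R T))) ∧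
      x ∈ Set.range (PrimeSpectrum.comap (algebraMap R T)) ∧
      Nonempty (Grp.mk (Red.bc (Spec.map (CommRingCat.ofHom (algebraMap R T))) (GA R C)) ≅ Grp.mk (Red.DS (Spec (CommRingCat.of T)) M)) := by
  obtain ⟨s, hs, hc⟩ := h
  obtain ⟨f, hf, hfx⟩ : ∃ f ∈ s, f ∉ x.asIdeal := by
    by_contra hcon
    push Not at hcon
    exact x.2.ne_top (top_le_iff.1 (hs ▸ Ideal.span_le.2 hcon))
  obtain ⟨S, _, _, hff, P, _, ⟨e₀⟩⟩ := hc f hf
  haveI := hff
  let R₀ := Localization.Away f
  letI : Algebra R S := Algebra.compHom S (algebraMap R R₀)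
  haveI : IsScalarTower R R₀ S := IsScalarTower.of_algebraMap_eq fun _ => rfl
  have hrange : Set.range (PrimeSpectrum.comap (algebraMap R S)) = PrimeSpectrum.basicOpen f := by
    rw [IsScalarTower.algebraMap_eq R R₀ S, PrimeSpectrum.comap_comp, Set.range_comp,
      (PrimeSpectrum.comap_surjective_of_faithfullyFlat (A := R₀) (B := S)).range_eq, Set.image_univ,
      PrimeSpectrum.localization_away_comap_range R₀ f]
  have hxf : x ∈ Set.range (PrimeSpectrum.comap (algebraMap R S)) := by rw [hrange]; exact hfx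
  haveI : Nontrivial S := by
    obtain ⟨y, -⟩ := hxf
    exact (PrimeSpectrum.nonempty_iff_nontrivial (R := S)).mp ⟨y⟩
  haveI : Group.FG P := Groth.Agent.H83.MultType.fg_of_finiteType (R := R₀) (A := R₀ ⊗[R] C) inferInstance e₀
  obtain ⟨T₀, -⟩ := Groth.Agent.H83.MultType.exists_towerEquiv R R₀ S C
  obtain ⟨M, _, hM, ⟨σ⟩⟩ := exists_small P
  obtain ⟨w⟩ := Groth.Agent.H83.Quasi.exists_domainCongr S σ
  exact ⟨S, inferInstance, inferInstance, M, inferInstance, hM, Module.Flat.trans R R₀ S,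
    hrange ▸ (PrimeSpectrum.basicOpen f).2, hxf,
    ⟨bcSpec S ≪≫ (grpIsoOfEquiv ((T₀.trans e₀).trans w)).symm ≪≫ (dsSpec S M).symm⟩⟩

variable {S : Scheme.{u}}

set_option maxHeartbeats 800000 in
/-- Multiplicative type may be checked on affine pieces of the base. -/
theorem isMultTypeFT_of_affine (H : Over S) [GrpObj H]
    (h : ∀ s : S, ∃ (R : Type u) (_ : CommRing R) (v : Spec (CommRingCat.of R) ⟶ S) (_ : IsOpenImmersion v)
      (C : Type u) (_ : CommRing C) (_ : HopfAlgebra R C), s ∈ Set.range v.base ∧ Algebra.FiniteType R C ∧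
      SGA3b.IsMultType R C ∧ Nonempty (Grp.mk (Red.bc v H) ≅ Grp.mk (GA R C))) :
    SGA3x.IsMultTypeFT H := by
  have key : ∀ s : S, ∃ (X : Scheme.{u}) (φ : X ⟶ S) (M : Type) (_ : AddCommGroup M), AddGroup.FG M ∧ Flat φ ∧
      s ∈ Set.range φ.base ∧ IsOpen (Set.range φ.base) ∧
      (∀ W : S.Opens, IsCompact (W : Set S) → (W : Set S) ⊆ Set.range φ.base → IsCompact ((φ ⁻¹ᵁ W : X.Opens) : Set X)) ∧
      Nonempty (Grp.mk (Red.bc φ H) ≅ Grp.mk (Red.DS X M)) := by
    intro s
    obtain ⟨R, _, v, hv, C, _, _, ⟨x, hx⟩, hft, hmt, ⟨e⟩⟩ := h s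
    obtain ⟨T, _, _, M, _, hM, hflat, hopen, ⟨y, hy⟩, ⟨c⟩⟩ := exists_chart_of_multType hmt x
    let g : Spec (CommRingCat.of T) ⟶ Spec (CommRingCat.of R) := Spec.map (CommRingCat.ofHom (algebraMap R T))
    haveI : Flat g := by
      rw [HasRingHomProperty.Spec_iff (P := @Flat), CommRingCat.hom_ofHom, RingHom.flat_algebraMap_iff]
      exact hflat
    refine ⟨_, g ≫ v, M, inferInstance, hM, inferInstance, ⟨y, ?_⟩, ?_, fun W hW hWr => ?_,
      ⟨BaseChange.bcComp g v H ≪≫ BaseChange.bcMapIso g e ≪≫ c⟩⟩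
    · exact (Scheme.Hom.comp_apply g v y).trans ((congrArg v.base hy).trans hx)
    · rw [show Set.range (g ≫ v).base = v.base '' Set.range g.base from by
        rw [Scheme.Hom.comp_base, TopCat.coe_comp, Set.range_comp]]
      exact v.isOpenEmbedding.isOpenMap _ hopen
    · rw [Scheme.Hom.comp_preimage]
      refine QuasiCompact.isCompact_preimage (f := g) _ (v ⁻¹ᵁ W).2 ?_
      refine v.isOpenEmbedding.isInducing.isCompact_preimage' hW (hWr.trans ?_)
      rw [Scheme.Hom.comp_base, TopCat.coe_comp]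
      exact Set.range_comp_subset_range _ _
  choose X φ M iM hM hflat hmem hopen hqc hiso using key
  haveI := hflat
  have hap : ∀ (s : S) (y : X s), (Sigma.desc φ).base ((Sigma.ι X s).base y) = (φ s).base y := fun s y => by
    rw [← Scheme.Hom.comp_apply, Sigma.ι_desc]
  refine ⟨∐ X, Sigma.desc φ, inferInstance, ⟨fun s => ?_⟩, fun V hV => ?_, fun z => ?_⟩
  · obtain ⟨y, hy⟩ := hmem s
    exact ⟨(Sigma.ι X s).base y, (hap s y).trans hy⟩
  · have hc : ∀ s : S, s ∈ V → ∃ W : S.Opens, IsAffineOpen W ∧ s ∈ W ∧ W ≤ V ∧ (W : Set S) ⊆ Set.range (φ s).base := fun s hs => by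
      obtain ⟨W, hW, hsW, hWle⟩ := exists_isAffineOpen_mem_and_subset (X := S) (x := s)
        (U := V ⊓ ⟨Set.range (φ s).base, hopen s⟩) ⟨hs, hmem s⟩
      exact ⟨W, hW, hsW, fun z hz => (hWle hz).1, fun z hz => (hWle hz).2⟩
    choose W hW hsW hWV hWr using hc
    obtain ⟨t, ht⟩ := hV.isCompact.elim_finite_subcover (fun s : (V : Set S) => (W s.1 s.2 : Set S))
      (fun s => (W s.1 s.2).2) fun s hs => Set.mem_iUnion.mpr ⟨⟨s, hs⟩, hsW s hs⟩
    refine ⟨⨆ s ∈ t, (Sigma.ι X s.1) ''ᵁ ((φ s.1) ⁻¹ᵁ W s.1 s.2), ?_, ?_⟩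
    · simp only [TopologicalSpace.Opens.iSup_mk, TopologicalSpace.Opens.coe_iSup]
      exact t.finite_toSet.isCompact_biUnion fun s _ => (hqc s.1 _ (hW _ _).isCompact (hWr _ _)).image (Sigma.ι X s.1).continuous
    · refine Set.Subset.antisymm ?_ fun z hz => ?_
      · rintro _ ⟨w, hw, rfl⟩
        simp only [TopologicalSpace.Opens.coe_iSup, Set.mem_iUnion] at hw
        obtain ⟨s, -, y, hy, rfl⟩ := hw
        refine (SetLike.mem_coe).2 ?_
        exact (hap s.1 y).symm ▸ hWV _ _ hy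
      · obtain ⟨s, hs, hzs⟩ := Set.mem_iUnion₂.mp (ht hz)
        obtain ⟨y, hy⟩ := hWr _ _ hzs
        refine ⟨(Sigma.ι X s.1).base y, ?_, (hap s.1 y).trans hy⟩
        simp only [TopologicalSpace.Opens.coe_iSup, Set.mem_iUnion]
        exact ⟨s, hs, y, show (φ s.1).base y ∈ W s.1 s.2 from hy ▸ hzs, rfl⟩
  · obtain ⟨s, y, rfl⟩ := (sigmaOpenCover X).exists_eq z
    obtain ⟨e⟩ := hiso s
    letI := iM s
    obtain ⟨e'⟩ := exists_opens (Sigma.desc φ) H (Sigma.ι X s) (BaseChange.bcCongr (Sigma.ι_desc φ s) H ≪≫ e)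
    exact ⟨(Sigma.ι X s).opensRange, ⟨y, rfl⟩, M s, iM s, hM s, ⟨e'⟩⟩

end

end Groth.Agent.Lib.MTBridge
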