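import Groth.Agent.Lib.MTBridge.Bridge
import Groth.Prelude.Def_SGA3b
import Mathlib.AlgebraicGeometry.Morphisms.FlatRank

/-!
The kernel of a power map of an affine group as the spectrum of the torsion quotient.
-/

set_option autoImplicit false
set_option linter.style.haveILetI false

universe u

open CategoryTheory CategoryTheory.Limits MonoidalCategory CartesianMonoidalCategory MonObj GrpObj AlgebraicGeometry
open Groth.Agent.Lib.Tori
open scoped TensorProduct

namespace Groth.Agent.Lib.MTBridge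

noncomputable section

variable {S T : Scheme.{u}}

/-- The structure map of the kernel of the `n`-th power map. -/
abbrev kerMap (n : ℕ) (H : Over S) [GrpObj H] : pullback η[H].left (𝟙 H ^ n : H ⟶ H).left ⟶ S :=
  pullback.snd η[H].left (𝟙 H ^ n : H ⟶ H).left ≫ H.hom

/-- The kernel of the power map commutes with base change. -/
theorem exists_isPullback_kerMap (n : ℕ) (H : Over S) [GrpObj H] (t : T ⟶ S) :
    ∃ a, IsPullback a (kerMap n (Red.bc t H)) (kerMap n H) t := by
  let HT := Red.bc t H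
  have hpow : (Over.pullback t).map (𝟙 H ^ n : H ⟶ H) = (𝟙 HT ^ n : HT ⟶ HT) := by
    have h := map_pow (Functor.homMonoidHom (Over.pullback t) (X := H) (M := H)) (𝟙 H) n
    simpa [Functor.homMonoidHom] using h
  -- the power map
  have h1 : IsPullback (pullback.fst H.hom t) (𝟙 HT ^ n : HT ⟶ HT).left (𝟙 H ^ n : H ⟶ H).left (pullback.fst H.hom t) :=
    hpow ▸ Groth.Agent.H87.Charts.isPullback_map t (𝟙 H ^ n : H ⟶ H)
  -- the unit section
  have hη : η[HT].left ≫ pullback.fst H.hom t = t ≫ η[H].left := by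
    have h2 : η[HT] = Functor.LaxMonoidal.ε (Over.pullback t) ≫ (Over.pullback t).map η[H] := rfl
    rw [h2, Over.comp_left, Category.assoc]
    have h3 : ((Over.pullback t).map η[H]).left ≫ pullback.fst H.hom t = pullback.fst (𝟙_ (Over S)).hom t ≫ η[H].left :=
      pullback.lift_fst _ _ _
    rw [h3, ← Category.assoc]
    congr 1
    have h4 : pullback.fst (𝟙_ (Over S)).hom t = pullback.snd (𝟙_ (Over S)).hom t ≫ t := by
      have := pullback.condition (f := (𝟙_ (Over S)).hom) (g := t)
      simpa using this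
    rw [h4, ← Category.assoc]
    have h5 : (Functor.LaxMonoidal.ε (Over.pullback t)).left ≫ pullback.snd (𝟙_ (Over S)).hom t = (𝟙_ (Over T)).hom :=
      Over.w (Functor.LaxMonoidal.ε (Over.pullback t))
    rw [h5]
    exact Category.id_comp t
  have h6 : IsPullback t η[HT].left η[H].left (pullback.fst H.hom t) := by
    refine IsPullback.of_bot (v₂₁ := HT.hom) (v₂₂ := H.hom) (h₃₁ := t) ?_ hη.symm (IsPullback.of_hasPullback H.hom t)
    rw [show η[HT].left ≫ HT.hom = 𝟙 T from Over.w η[HT], show η[H].left ≫ H.hom = 𝟙 S from Over.w η[H]]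
    exact IsPullback.of_vert_isIso ⟨by simp⟩
  -- the pullback of the unit along the power map
  let a : pullback η[HT].left (𝟙 HT ^ n : HT ⟶ HT).left ⟶ pullback η[H].left (𝟙 H ^ n : H ⟶ H).left :=
    pullback.map _ _ _ _ t (pullback.fst H.hom t) (pullback.fst H.hom t) h6.w.symm h1.w.symm
  refine ⟨a, ?_⟩
  have ha₁ : a ≫ pullback.fst _ _ = pullback.fst _ _ ≫ t := pullback.lift_fst _ _ _
  have ha₂ : a ≫ pullback.snd _ _ = pullback.snd _ _ ≫ pullback.fst H.hom t := pullback.lift_snd _ _ _
  have h7 : IsPullback (pullback.fst η[HT].left (𝟙 HT ^ n : HT ⟶ HT).left ≫ t) (pullback.snd _ _)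
      η[H].left ((𝟙 HT ^ n : HT ⟶ HT).left ≫ pullback.fst H.hom t) :=
    (IsPullback.of_hasPullback _ _).paste_horiz h6
  have h8 : IsPullback a (pullback.snd η[HT].left (𝟙 HT ^ n : HT ⟶ HT).left) (pullback.snd _ _) (pullback.fst H.hom t) := by
    refine IsPullback.of_right ?_ ha₂ (IsPullback.of_hasPullback η[H].left (𝟙 H ^ n : H ⟶ H).left)
    rw [ha₁, h1.w]
    exact h7
  exact h8.paste_vert (IsPullback.of_hasPullback H.hom t)

/-- Isomorphic groups have isomorphic kernels of power maps. -/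
theorem exists_iso_kerMap (n : ℕ) {H H' : Over S} [GrpObj H] [GrpObj H'] (e : Grp.mk H ≅ Grp.mk H') :
    ∃ i : pullback η[H].left (𝟙 H ^ n : H ⟶ H).left ≅ pullback η[H'].left (𝟙 H' ^ n : H' ⟶ H').left,
      i.hom ≫ kerMap n H' = kerMap n H := by
  let f := BaseChange.overIso e
  haveI : IsIso f.hom.left := inferInstanceAs (IsIso ((Over.forget _).map f.hom))
  have hη : η[H].left ≫ f.hom.left = 𝟙 (𝟙_ (Over S)).left ≫ η[H'].left := by
    rw [← Over.comp_left, IsMonHom.one_hom f.hom]
    exact (Category.id_comp _).symm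
  have hp : (𝟙 H ^ n : H ⟶ H) ≫ f.hom = f.hom ≫ (𝟙 H' ^ n : H' ⟶ H') := by
    rw [MonObj.pow_comp, MonObj.comp_pow, Category.id_comp, Category.comp_id]
  let a := pullback.map η[H].left (𝟙 H ^ n : H ⟶ H).left η[H'].left (𝟙 H' ^ n : H' ⟶ H').left (𝟙 (𝟙_ (Over S)).left) f.hom.left f.hom.left hη
    (by rw [← Over.comp_left, hp, Over.comp_left])
  haveI : IsIso a := pullback.map_isIso _ _ _ _ _ _ _ _ _
  refine ⟨asIso a, ?_⟩
  show a ≫ pullback.snd _ _ ≫ H'.hom = pullback.snd _ _ ≫ H.hom
  rw [pullback.lift_snd_assoc, Category.assoc, Over.w f.hom]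

variable {R : Type u} [CommRing R] {C : Type u} [CommRing C] [HopfAlgebra R C]

theorem pow_left (n : ℕ) :
    (𝟙 (GA R C) ^ n : GA R C ⟶ GA R C).left = Spec.map (CommRingCat.ofHom (SGA3b.powConv R C n).toRingHom) := by
  rw [show (𝟙 (GA R C) ^ n : GA R C ⟶ GA R C) = Spec.mapMulEquiv (WithConv.toConv (AlgHom.id R C) ^ n) by
    rw [map_pow, Groth.Agent.H1.Hopf.mapMulEquiv_id]]
  rfl

/-- The quotient by the torsion ideal is a pushout. -/
theorem isPushout_torsion (n : ℕ) :
    IsPushout (CommRingCat.ofHom (Bialgebra.counitAlgHom R C).toRingHom) (CommRingCat.ofHom (SGA3b.powConv R C n).toRingHom)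
      (CommRingCat.ofHom (algebraMap R (C ⧸ SGA3b.torsionIdeal R C n)))
      (CommRingCat.ofHom (Ideal.Quotient.mk (SGA3b.torsionIdeal R C n))) := by
  let J := SGA3b.torsionIdeal R C n
  have hw : ∀ a, algebraMap R (C ⧸ J) (Bialgebra.counitAlgHom R C a) = Ideal.Quotient.mk J (SGA3b.powConv R C n a) := fun a => by
    rw [IsScalarTower.algebraMap_apply R C (C ⧸ J), Ideal.Quotient.algebraMap_eq, Ideal.Quotient.eq,
      ← (SGA3b.powConv R C n).commutes (Bialgebra.counitAlgHom R C a), ← map_sub]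
    exact Ideal.mem_map_of_mem _ (by simp [RingHom.mem_ker])
  refine ⟨⟨CommRingCat.hom_ext (RingHom.ext hw)⟩, ⟨PushoutCocone.IsColimit.mk _ (fun s => CommRingCat.ofHom
    (Ideal.Quotient.lift J s.inr.hom fun x hx => ?_)) (fun s => ?_) (fun s => ?_) fun s m _ hm => ?_⟩⟩
  · refine (show J ≤ RingHom.ker s.inr.hom from Ideal.map_le_iff_le_comap.2 fun a ha => ?_) hx
    rw [RingHom.mem_ker] at ha
    show s.inr.hom (SGA3b.powConv R C n a) = 0
    have h : s.inl.hom (Bialgebra.counitAlgHom R C a) = s.inr.hom (SGA3b.powConv R C n a) := congr($(s.condition).hom a)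
    rw [← h, ha, map_zero]
  · refine CommRingCat.hom_ext (RingHom.ext fun r => ?_)
    have h : s.inl.hom (Bialgebra.counitAlgHom R C (algebraMap R C r)) = s.inr.hom (SGA3b.powConv R C n (algebraMap R C r)) :=
      congr($(s.condition).hom (algebraMap R C r))
    rw [AlgHom.commutes, AlgHom.commutes, Algebra.algebraMap_self, RingHom.id_apply] at h
    simp only [CommRingCat.hom_comp, RingHom.comp_apply, CommRingCat.hom_ofHom]
    rw [IsScalarTower.algebraMap_apply R C (C ⧸ SGA3b.torsionIdeal R C n), Ideal.Quotient.algebraMap_eq]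
    exact h.symm
  · exact CommRingCat.hom_ext (RingHom.ext fun c => rfl)
  · refine CommRingCat.hom_ext (Ideal.Quotient.ringHom_ext (RingHom.ext fun c => ?_))
    exact congr($(hm).hom c)

/-- The kernel of a power map of an affine group. -/
theorem exists_iso_torsion (n : ℕ) :
    ∃ i : Spec (CommRingCat.of (C ⧸ SGA3b.torsionIdeal R C n)) ≅ pullback η[GA R C].left (𝟙 (GA R C) ^ n : GA R C ⟶ GA R C).left,
      i.hom ≫ kerMap n (GA R C) = Spec.map (CommRingCat.ofHom (algebraMap R (C ⧸ SGA3b.torsionIdeal R C n))) := by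
  have h : IsPullback (Spec.map (CommRingCat.ofHom (algebraMap R (C ⧸ SGA3b.torsionIdeal R C n))))
      (Spec.map (CommRingCat.ofHom (Ideal.Quotient.mk (SGA3b.torsionIdeal R C n))))
      η[GA R C].left (𝟙 (GA R C) ^ n : GA R C ⟶ GA R C).left := by
    have hη : η[GA R C].left = Spec.map (CommRingCat.ofHom (Bialgebra.counitAlgHom R C).toRingHom) := rfl
    rw [pow_left, hη]
    exact isPullback_SpecMap_of_isPushout _ _ _ _ (isPushout_torsion n)
  refine ⟨h.isoPullback, (IsPullback.isoPullback_hom_snd_assoc h _).trans ?_⟩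
  show Spec.map _ ≫ Spec.map (CommRingCat.ofHom (algebraMap R C)) = _
  rw [← Spec.map_comp, ← CommRingCat.ofHom_comp]
  try rfl

end

end Groth.Agent.Lib.MTBridge
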