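import Groth.Agent.Lib.DiagGL.Points
import Groth.Agent.H1.Hopf
import Groth.Agent.H87.Charts
import Groth.Agent.Lib.Tori.DS
import Mathlib.AlgebraicGeometry.Group.Affine
import Mathlib.AlgebraicGeometry.Morphisms.ClosedImmersion

/-!
Spectra of Hopf algebras as group schemes: homomorphisms and base change.
-/

set_option autoImplicit false
set_option linter.style.haveILetI false

universe u

open CategoryTheory CategoryTheory.Limits MonoidalCategory CartesianMonoidalCategory MonObj GrpObj AlgebraicGeometry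
open Groth.Agent.Lib.Tori.BaseChange
open scoped TensorProduct

namespace Groth.Agent.Lib.MTBridge

noncomputable section

variable {R : Type u} [CommRing R]

/-- The spectrum of a Hopf algebra as a group over the base. -/
abbrev GA (R : Type u) [CommRing R] (A : Type u) [CommRing A] [HopfAlgebra R A] : Over (Spec (CommRingCat.of R)) :=
  (Spec (CommRingCat.of A)).asOver (Spec (CommRingCat.of R))

variable {A B : Type u} [CommRing A] [HopfAlgebra R A] [CommRing B] [HopfAlgebra R B]

/-- A homomorphism between spectra of Hopf algebras comes from a bialgebra map. -/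
theorem exists_bialgHom (j : GA R A ⟶ GA R B) [IsMonHom j] :
    ∃ π : B →ₐc[R] A, j.left = Spec.map (CommRingCat.ofHom (π : B →+* A)) := by
  let X : (CommHopfAlgCat R)ᵒᵖ := Opposite.op (CommHopfAlgCat.of R A)
  let Y : (CommHopfAlgCat R)ᵒᵖ := Opposite.op (CommHopfAlgCat.of R B)
  let g : (hopfSpec (CommRingCat.of R)).obj X ⟶ (hopfSpec (CommRingCat.of R)).obj Y := Grp.homMk' (Mon.Hom.mk' j (IsMonHom.one_hom j) (IsMonHom.mul_hom j))
  let F : (hopfSpec (CommRingCat.of R)).FullyFaithful := hopfSpec.fullyFaithful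
  refine ⟨(F.preimage g).unop.hom, ?_⟩
  have h : (hopfSpec (CommRingCat.of R)).map (F.preimage g) = g := F.map_preimage g
  exact (congrArg (fun φ => φ.hom.hom.left) h).symm

/-- An isomorphism of Hopf algebras gives an isomorphism of groups. -/
def grpIsoOfEquiv (e : A ≃ₐc[R] B) : Grp.mk (GA R B) ≅ Grp.mk (GA R A) :=
  (hopfSpec (CommRingCat.of R)).mapIso
    ({ hom := (CommHopfAlgCat.ofHom (e : A →ₐc[R] B)).op
       inv := (CommHopfAlgCat.ofHom (e.symm : B →ₐc[R] A)).op
       hom_inv_id := Quiver.Hom.unop_inj (by ext x; simp)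
       inv_hom_id := Quiver.Hom.unop_inj (by ext x; simp) } :
      Opposite.op (CommHopfAlgCat.of R B) ≅ Opposite.op (CommHopfAlgCat.of R A))

/-- Base change of the spectrum of a Hopf algebra. -/
def bcSpec (T : Type u) [CommRing T] [Algebra R T] :
    Grp.mk (Red.bc (Spec.map (CommRingCat.ofHom (algebraMap R T))) (GA R A)) ≅ Grp.mk (GA T (T ⊗[R] A)) := by
  let σ := (pullbackSymmetry ((Spec (CommRingCat.of A)) ↘ Spec (CommRingCat.of R)) ((Spec (CommRingCat.of T)) ↘ Spec (CommRingCat.of R))) ≪≫
    pullbackSpecIso' R T A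
  haveI : IsMonHom (σ.asOver (Spec (CommRingCat.of T))).hom := inferInstanceAs (IsMonHom ((pullbackSymmetry _ _ ≪≫ pullbackSpecIso' R T A).hom.asOver (Spec (CommRingCat.of T))))
  let E : Red.bc (Spec.map (CommRingCat.ofHom (algebraMap R T))) (GA R A) ≅ GA T (T ⊗[R] A) := σ.asOver (Spec (CommRingCat.of T))
  haveI : IsMonHom E.hom := inferInstanceAs (IsMonHom ((pullbackSymmetry _ _ ≪≫ pullbackSpecIso' R T A).hom.asOver (Spec (CommRingCat.of T))))
  exact Grp.mkIso' E

/-- `D_{Spec R}(M)` for the group algebra of the type `M`. -/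
def dsSpec (R : Type u) [CommRing R] (M : Type) [AddCommGroup M] :
    Grp.mk (Red.DS (Spec (CommRingCat.of R)) M) ≅ Grp.mk (GA R (MonoidAlgebra R (Multiplicative M))) :=
  grpIso (Groth.Agent.Lib.DiagGL.dsDiag R M)

end

end Groth.Agent.Lib.MTBridge
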