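import Groth.Agent.Lib.OT67.LocalCrit
import Groth.Agent.S2969
import Mathlib

/-!
Multiplicative type from fibres of multiplicative type with locally constant orders of torsion.
-/

open TensorProduct Groth.Agent.H83.MultType Groth.Agent.H83.Quasi

set_option linter.style.haveILetI false

universe u

namespace Groth.Agent.Lib.MTBridge.Orders

noncomputable section

variable {K : Type u} [Field K]

/-- The quotient of a group by the powers. -/
abbrev modPowGroup (M : Type u) [CommGroup M] (n : ℕ) : Type u := M ⧸ (powMonoidHom n : M →* M).range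

theorem finite_modPowGroup (M : Type u) [CommGroup M] [Group.FG M] {n : ℕ} (hn : 0 < n) : Finite (modPowGroup M n) := by
  haveI : Group.FG (modPowGroup M n) := Group.fg_of_surjective (f := QuotientGroup.mk' _) (QuotientGroup.mk'_surjective _)
  refine CommGroup.finite_of_fg_torsion _ fun g => isOfFinOrder_iff_pow_eq_one.2 ⟨n, hn, ?_⟩
  induction g using QuotientGroup.induction_on with
  | H m => exact (QuotientGroup.eq_one_iff _).2 ⟨m, rfl⟩

theorem powConv_monoidAlgebra {R : Type u} [CommRing R] {M : Type u} [CommGroup M] (n : ℕ) (a : MonoidAlgebra R M) :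
    SGA3b.powConv R (MonoidAlgebra R M) n a = MonoidAlgebra.mapDomainAlgHom R R (powMonoidHom n : M →* M) a := by
  have h := map_powConv (S := R) (Bialgebra.TensorProduct.lid R (MonoidAlgebra R M) : R ⊗[R] MonoidAlgebra R M →ₐc[R] MonoidAlgebra R M) n a
  change Bialgebra.TensorProduct.lid R (MonoidAlgebra R M) (1 ⊗ₜ[R] _) =
    MonoidAlgebra.mapDomainAlgHom R R _ (Bialgebra.TensorProduct.lid R (MonoidAlgebra R M) (1 ⊗ₜ[R] a)) at h
  rwa [Bialgebra.TensorProduct.lid_tmul, Bialgebra.TensorProduct.lid_tmul, one_smul, one_smul] at h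

/-- The kernel of a power map of a diagonalisable group. -/
theorem finrank_monoidAlgebra_torsion (K : Type u) [Field K] (M : Type u) [CommGroup M] [Group.FG M] {n : ℕ} (hn : 0 < n) :
    Module.finrank K (MonoidAlgebra K M ⧸ SGA3b.torsionIdeal K (MonoidAlgebra K M) n) = Nat.card (modPowGroup M n) := by
  classical
  let Q := modPowGroup M n
  let q : M →* Q := QuotientGroup.mk' _
  let χ : MonoidAlgebra K M →ₐ[K] MonoidAlgebra K Q := MonoidAlgebra.mapDomainAlgHom K K q
  let J := SGA3b.torsionIdeal K (MonoidAlgebra K M) n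
  have hle : J ≤ RingHom.ker χ := by
    refine Ideal.map_le_iff_le_comap.2 fun a ha => ?_
    rw [RingHom.mem_ker] at ha
    rw [Ideal.mem_comap, RingHom.mem_ker, powConv_monoidAlgebra]
    have : ∀ b : MonoidAlgebra K M, χ (MonoidAlgebra.mapDomainAlgHom K K (powMonoidHom n : M →* M) b) =
        algebraMap K (MonoidAlgebra K Q) (CoalgebraStruct.counit (R := K) b) := fun b => by
      induction b using MonoidAlgebra.induction_linear with
      | zero => simp
      | add a b ha hb => simp only [map_add, ha, hb]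
      | single p r =>
        have hp : q (p ^ n) = 1 := (QuotientGroup.eq_one_iff _).2 ⟨p, rfl⟩
        simp [χ, hp]
    rw [this, show CoalgebraStruct.counit (R := K) a = 0 from ha, map_zero]
  have hmem : ∀ m : M, MonoidAlgebra.single (m ^ n) (1 : K) - 1 ∈ J := fun m => by
    have h : SGA3b.powConv K (MonoidAlgebra K M) n (MonoidAlgebra.single m 1 - 1) ∈ J :=
      Ideal.mem_map_of_mem _ (by simp [RingHom.mem_ker])
    rw [map_sub, map_one, powConv_monoidAlgebra] at h
    simpa using h
  let γ : Q →* MonoidAlgebra K M ⧸ J := QuotientGroup.lift _ ((Ideal.Quotient.mk J).toMonoidHom.comp (MonoidAlgebra.of K M))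
    (by
      rintro _ ⟨m, rfl⟩
      show Ideal.Quotient.mk J (MonoidAlgebra.single (m ^ n) (1 : K)) = 1
      rw [← sub_eq_zero, ← map_one (Ideal.Quotient.mk J), ← map_sub, Ideal.Quotient.eq_zero_iff_mem]
      exact hmem m)
  have hγ : (MonoidAlgebra.lift K _ Q γ).comp χ = Ideal.Quotient.mkₐ K J :=
    MonoidAlgebra.algHom_ext (fun m => by simp [χ, γ, q]; rfl) (Subsingleton.elim _ _)
  have hker : RingHom.ker χ = J := le_antisymm (fun x hx => by
    rw [← Ideal.Quotient.eq_zero_iff_mem, ← Ideal.Quotient.mkₐ_eq_mk K, ← hγ, AlgHom.comp_apply,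
      show χ x = 0 from hx, map_zero]) hle
  have hsurj : Function.Surjective χ := fun y => by
    induction y using MonoidAlgebra.induction_linear with
    | zero => exact ⟨0, map_zero _⟩
    | add a b ha hb =>
      obtain ⟨x, rfl⟩ := ha; obtain ⟨z, rfl⟩ := hb
      exact ⟨x + z, map_add _ x z⟩
    | single m c =>
      obtain ⟨m, rfl⟩ := QuotientGroup.mk'_surjective _ m
      exact ⟨MonoidAlgebra.single m c, by simp [χ, q]; rfl⟩
  haveI : Finite Q := finite_modPowGroup M hn
  haveI := Fintype.ofFinite Q
  rw [((Ideal.quotientEquivAlgOfEq K hker.symm).trans (Ideal.quotientKerAlgEquivOfSurjective hsurj)).toLinearEquiv.finrank_eq,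
    (MonoidAlgebra.coeffLinearEquiv K).finrank_eq, Module.finrank_finsupp_self, Nat.card_eq_fintype_card]

/-- A quotient of diagonalisable groups with the same torsion is the whole group. -/
theorem bijective_of_card {A B : Type u} [CommRing A] [HopfAlgebra K A] [CommRing B] [HopfAlgebra K B]
    (θ : A →ₐc[K] B) (hθ : Function.Surjective θ) {N M : Type u} [CommGroup N] [Group.FG N] [CommGroup M] [Group.FG M]
    (E : A ≃ₐc[K] MonoidAlgebra K N) (F : B ≃ₐc[K] MonoidAlgebra K M)
    (h : ∀ n, 0 < n → Nat.card (modPowGroup N n) = Nat.card (modPowGroup M n)) : Function.Bijective θ := by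
  classical
  refine ⟨?_, hθ⟩
  choose q hq using fun x : N => groupLike_eq_single ((((groupLike_single (S := K) x).map E.symm).map θ).map F)
  have hmul : ∀ a b, q (a * b) = q a * q b := fun a b => single_eq_single (S := K) (by
    rw [← hq, show (MonoidAlgebra.single (q a * q b) (1 : K)) = MonoidAlgebra.single (q a) 1 * MonoidAlgebra.single (q b) 1 by
      rw [MonoidAlgebra.single_mul_single, mul_one], ← hq, ← hq, ← map_mul F, ← map_mul θ, ← map_mul E.symm,
      MonoidAlgebra.single_mul_single, mul_one])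
  let qh : N →* M := MonoidHom.mk' q hmul
  have hmap : ∀ y, F (θ (E.symm y)) = MonoidAlgebra.mapDomainAlgHom K K qh y := fun y => by
    induction y using MonoidAlgebra.induction_linear with
    | zero => simp
    | add a b ha hb => simp only [map_add, ha, hb]
    | single p r =>
      rw [show MonoidAlgebra.single p r = r • MonoidAlgebra.single p (1 : K) by rw [MonoidAlgebra.smul_single, smul_eq_mul, mul_one],
        map_smul, map_smul, map_smul, map_smul, hq]
      simp [qh]
  have hsur : Function.Surjective qh := fun x => by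
    obtain ⟨a, ha⟩ := hθ (F.symm (MonoidAlgebra.single x 1))
    have h1 := hmap (E a)
    rw [E.symm_apply_apply, ha, show F (F.symm (MonoidAlgebra.single x (1 : K))) = _ from F.apply_symm_apply _] at h1
    generalize E a = w at h1
    by_contra hx
    have h2 := congrArg (coeffAt K x) h1
    rw [coeffAt_single, if_pos rfl] at h2
    refine one_ne_zero (h2.trans ?_)
    clear h1 h2
    induction w using MonoidAlgebra.induction_linear with
    | zero => rw [map_zero, map_zero]
    | add a b ha hb => rw [map_add, map_add, ha, hb, add_zero]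
    | single m c =>
      rw [MonoidAlgebra.mapDomainAlgHom_apply, MonoidAlgebra.mapDomain_single, coeffAt_single, if_neg fun hxm => hx ⟨m, hxm⟩]
  have hinj : Function.Injective qh := by
    refine (injective_iff_map_eq_one qh).2 fun m hm => ?_
    by_contra hm1
    obtain ⟨n, hn, hav⟩ := exists_exponent_avoiding ({m} : Finset N)
    let qb : modPowGroup N n →* modPowGroup M n := QuotientGroup.map _ _ qh fun x hx => by
      obtain ⟨y, rfl⟩ := hx
      exact ⟨qh y, by simp [powMonoidHom_apply, map_pow]⟩
    have hqb : Function.Surjective qb := fun z => by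
      induction z using QuotientGroup.induction_on with
      | H z =>
        obtain ⟨y, rfl⟩ := hsur z
        exact ⟨QuotientGroup.mk y, rfl⟩
    haveI := finite_modPowGroup N hn
    haveI := finite_modPowGroup M hn
    have hb := hqb.bijective_of_nat_card_le (h n hn).le
    refine hav m (Finset.mem_singleton_self m) hm1 ((QuotientGroup.eq_one_iff _).1 (hb.1 ?_))
    rw [map_one]
    show QuotientGroup.mk (qh m) = 1
    rw [hm, QuotientGroup.mk_one]
  intro a b hab
  apply EquivLike.injective E
  apply MonoidAlgebra.mapDomain_injective (f := qh) hinj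
  have ha := hmap (E a)
  have hb := hmap (E b)
  rw [E.symm_apply_apply] at ha hb
  exact ha.symm.trans ((congrArg F hab).trans hb)

/-- Over an algebraically closed field multiplicative type means diagonalisable. -/
theorem exists_diag [IsAlgClosed K] {D : Type u} [CommRing D] [HopfAlgebra K D] (hft : Algebra.FiniteType K D)
    (h : SGA3b.IsMultType K D) :
    ∃ (M : Type u) (_ : CommGroup M), Group.FG M ∧ Nonempty (D ≃ₐc[K] MonoidAlgebra K M) := by
  obtain ⟨k', _, _, hfin, -, M, _, hM, ⟨e⟩⟩ := Groth.Agent.S2969.result K D hft h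
  let ι : K ≃ₐ[K] k' := AlgEquiv.ofBijective (Algebra.ofId K k') (IsAlgClosed.algebraMap_bijective_of_isIntegral)
  obtain ⟨e', -⟩ := exists_diag_map (k := K) (A := D) ι.symm.toAlgHom e
  exact ⟨M, inferInstance, hM, ⟨(Bialgebra.TensorProduct.lid K D).symm.trans e'⟩⟩

/-- The order of a torsion subgroup after an extension to a field. -/
theorem finrank_eq_card {R : Type u} [CommRing R] {C : Type u} [CommRing C] [HopfAlgebra R C] [Algebra R K]
    {M : Type u} [CommGroup M] [Group.FG M] (E : (K ⊗[R] C) ≃ₐc[K] MonoidAlgebra K M) {n : ℕ} (hn : 0 < n) :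
    Module.finrank K (K ⊗[R] (C ⧸ SGA3b.torsionIdeal R C n)) = Nat.card (modPowGroup M n) := by
  rw [← finrank_monoidAlgebra_torsion K M hn]
  let i₁ : K ⊗[R] (C ⧸ SGA3b.torsionIdeal R C n) ≃ₐ[K] (K ⊗[R] C) ⧸ SGA3b.torsionIdeal K (K ⊗[R] C) n :=
    (Algebra.TensorProduct.tensorQuotientEquiv (R := R) K C K (SGA3b.torsionIdeal R C n)).trans
      (Ideal.quotientEquivAlgOfEq K (Groth.Agent.H83.Complete.torsion_baseChange K n).symm)
  let i₂ := Ideal.quotientEquivAlg (SGA3b.torsionIdeal K (K ⊗[R] C) n) (SGA3b.torsionIdeal K (MonoidAlgebra K M) n)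
    E.toAlgEquiv (Groth.Agent.H83.Complete.torsion_map_surjective (E : (K ⊗[R] C) →ₐc[K] MonoidAlgebra K M) (EquivLike.surjective E) n)
  exact (i₁.trans i₂).toLinearEquiv.finrank_eq

/-- The order of a torsion subgroup of a fibre. -/
def ord (R : Type u) [CommRing R] (C : Type u) [CommRing C] [HopfAlgebra R C] (p : PrimeSpectrum R) (n : ℕ) : ℕ :=
  Module.finrank p.asIdeal.ResidueField (p.asIdeal.ResidueField ⊗[R] (C ⧸ SGA3b.torsionIdeal R C n))

/-- Fibres with values in a field. -/
theorem exists_fibre_point {R : Type u} [CommRing R] {C : Type u} [CommRing C] [HopfAlgebra R C] [Algebra.FinitePresentation R C]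
    (hs : ∀ (P : Ideal R) [P.IsPrime], SGA3b.IsMultType P.ResidueField (P.ResidueField ⊗[R] C))
    (K : Type u) [Field K] [IsAlgClosed K] [Algebra R K] :
    ∃ (N : Type u) (_ : CommGroup N) (_ : Group.FG N), Nonempty ((K ⊗[R] C) ≃ₐc[K] MonoidAlgebra K N) ∧
      ∀ n, 0 < n → Nat.card (modPowGroup N n) = ord R C ⟨RingHom.ker (algebraMap R K), RingHom.ker_isPrime _⟩ n := by
  let P : Ideal R := RingHom.ker (algebraMap R K)
  haveI : P.IsPrime := RingHom.ker_isPrime _
  let ι : P.ResidueField →ₐ[R] K := Ideal.ResidueField.liftₐ P (Algebra.ofId R K) le_rfl (fun r hr => IsUnit.mk0 _ fun h => hr h)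
  letI : Algebra P.ResidueField K := ι.toRingHom.toAlgebra
  haveI : IsScalarTower R P.ResidueField K := IsScalarTower.of_algebraMap_eq fun r => (ι.commutes r).symm
  obtain ⟨U, -⟩ := exists_towerEquiv R P.ResidueField K C
  obtain ⟨N, _, hN, ⟨e⟩⟩ := exists_diag (K := K) inferInstance (isMultType_baseChange K (hs P))
  haveI := hN
  refine ⟨N, inferInstance, hN, ⟨U.trans e⟩, fun n hn => ?_⟩
  rw [← finrank_eq_card (U.trans e) hn]
  show _ = Module.finrank P.ResidueField (P.ResidueField ⊗[R] (C ⧸ SGA3b.torsionIdeal R C n))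
  rw [← (Algebra.TensorProduct.cancelBaseChange R P.ResidueField K K (C ⧸ SGA3b.torsionIdeal R C n)).toLinearEquiv.finrank_eq,
    Module.finrank_baseChange]

set_option maxHeartbeats 800000 in
set_option synthInstance.maxHeartbeats 200000 in
/-- An open subgroup with all torsion is the whole group when the orders of torsion do not vary. -/
theorem idem_eq_zero_of_card {L : Type u} [CommRing L] [IsLocalRing L] {D : Type u} [CommRing D] [HopfAlgebra L D]
    [Algebra.FiniteType L D] {B : Type u} [CommRing B] [HopfAlgebra L B] (φ : D →ₐc[L] B) (hφ : Function.Surjective φ)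
    (hB : SGA3b.IsIsotrivial L B) {e : D} (he : IsIdempotentElem e)
    (hem : e ∈ (IsLocalRing.maximalIdeal L).map (algebraMap L D)) (hK : RingHom.ker (φ : D →ₐ[L] B) = Ideal.span {e})
    (f : ℕ → ℕ)
    (hfib : ∀ (K : Type u) [Field K] [IsAlgClosed K] [Algebra L K], ∃ (N : Type u) (_ : CommGroup N) (_ : Group.FG N),
      Nonempty ((K ⊗[L] D) ≃ₐc[K] MonoidAlgebra K N) ∧ ∀ n, 0 < n → Nat.card (modPowGroup N n) = f n) :
    e = 0 := by
  classical
  obtain ⟨S, _, _, -, -, hSff, M, _, ⟨g⟩⟩ := hB
  haveI := hSff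
  haveI hBft : Algebra.FiniteType L B := ‹Algebra.FiniteType L D›.of_surjective (φ : D →ₐ[L] B) hφ
  haveI : Nontrivial S := by
    obtain ⟨y, -⟩ := PrimeSpectrum.comap_surjective_of_faithfullyFlat (A := L) (B := S) (IsLocalRing.closedPoint L)
    exact (PrimeSpectrum.nonempty_iff_nontrivial (R := S)).mp ⟨y⟩
  haveI : Group.FG M := fg_of_finiteType hBft g
  have hsurjK : ∀ (K : Type u) [CommRing K] [Algebra L K],
      Function.Surjective (Bialgebra.TensorProduct.map (BialgHom.id K K) φ) := fun K _ _ z => by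
    induction z using TensorProduct.induction_on with
    | zero => exact ⟨0, map_zero _⟩
    | add a b ha hb =>
      obtain ⟨x, rfl⟩ := ha; obtain ⟨w, rfl⟩ := hb
      exact ⟨x + w, map_add _ x w⟩
    | tmul t c =>
      obtain ⟨a, rfl⟩ := hφ c
      exact ⟨t ⊗ₜ a, by simp⟩
  -- the type of the open subgroup, at the closed point
  have closed : ∀ (K : Type u) [Field K] [IsAlgClosed K] [Algebra L K], (S →ₐ[L] K) →
      (∀ l ∈ IsLocalRing.maximalIdeal L, algebraMap L K l = 0) → ∀ n, 0 < n → Nat.card (modPowGroup M n) = f n := by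
    intro K _ _ _ jS hK0
    obtain ⟨F, -⟩ := exists_diag_map (A := B) jS g
    obtain ⟨N, _, hN, ⟨E⟩, hcard⟩ := hfib K
    haveI := hN
    let θ := Bialgebra.TensorProduct.map (BialgHom.id K K) φ
    have he0 : (1 : K) ⊗ₜ[L] e = 0 := by
      refine (show (IsLocalRing.maximalIdeal L).map (algebraMap L D) ≤
        RingHom.ker (Algebra.TensorProduct.includeRight : D →ₐ[L] K ⊗[L] D) from
        Ideal.map_le_iff_le_comap.2 fun l hl => ?_) hem
      show (Algebra.TensorProduct.includeRight : D →ₐ[L] K ⊗[L] D) (algebraMap L D l) = 0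
      rw [AlgHom.commutes, IsScalarTower.algebraMap_apply L K (K ⊗[L] D), hK0 l hl, map_zero]
    have hθ : ∀ z, θ z = Algebra.TensorProduct.map (AlgHom.id L K) (φ : D →ₐ[L] B) z := fun z => by
      induction z using TensorProduct.induction_on with
      | zero => simp
      | tmul a b => simp [θ]
      | add a b ha hb => simp only [map_add, ha, hb]
    have hinj : Function.Injective θ := (injective_iff_map_eq_zero θ).2 fun z hz => by
      have h1 : z ∈ RingHom.ker (Algebra.TensorProduct.map (AlgHom.id L K) (φ : D →ₐ[L] B)) := by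
        rw [RingHom.mem_ker, ← hθ]; exact hz
      rw [Algebra.TensorProduct.lTensor_ker (R := L) (A := K) (φ : D →ₐ[L] B) hφ, hK, Ideal.map_span, Set.image_singleton,
        show (Algebra.TensorProduct.includeRight : D →ₐ[L] K ⊗[L] D) e = 0 from he0,
        Ideal.span_singleton_eq_bot.2 rfl] at h1
      exact h1
    let Θ : (K ⊗[L] D) ≃ₐc[K] K ⊗[L] B := BialgEquiv.ofBijective θ ⟨hinj, hsurjK K⟩
    obtain ⟨σ⟩ := nonempty_mulEquiv_of_bialgEquiv ((E.symm.trans Θ).trans F)
    intro n hn
    rw [← hcard n hn]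
    have hσ : (powMonoidHom n : N →* N).range.map (σ : N →* M) = (powMonoidHom n : M →* M).range := ?_
    · exact (Nat.card_congr (QuotientGroup.congr (powMonoidHom n : N →* N).range (powMonoidHom n : M →* M).range σ hσ).toEquiv).symm
    ext x
    constructor
    · rintro ⟨_, ⟨y, rfl⟩, rfl⟩
      exact ⟨σ y, by simp⟩
    · rintro ⟨y, rfl⟩
      exact ⟨_, ⟨σ.symm y, rfl⟩, by simp⟩
  have hM : ∀ n, 0 < n → Nat.card (modPowGroup M n) = f n := by
    haveI : Nontrivial (IsLocalRing.ResidueField L ⊗[L] S) := inferInstance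
    obtain ⟨m, hm⟩ := Ideal.exists_maximal (IsLocalRing.ResidueField L ⊗[L] S)
    letI := Ideal.Quotient.field m
    let j : IsLocalRing.ResidueField L ⊗[L] S →ₐ[L] AlgebraicClosure ((IsLocalRing.ResidueField L ⊗[L] S) ⧸ m) :=
      (IsScalarTower.toAlgHom L _ _).comp (Ideal.Quotient.mkₐ L m)
    refine closed _ (j.comp Algebra.TensorProduct.includeRight) fun l hl => ?_
    rw [← j.commutes l, show algebraMap L (IsLocalRing.ResidueField L ⊗[L] S) l = algebraMap L (IsLocalRing.ResidueField L) l ⊗ₜ[L] (1 : S) from rfl,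
      show algebraMap L (IsLocalRing.ResidueField L) l = 0 from Ideal.Quotient.eq_zero_iff_mem.2 hl, TensorProduct.zero_tmul, map_zero]
  -- the complement is empty
  have vanish : ∀ (K : Type u) [Field K] [IsAlgClosed K] [Algebra L K], (S →ₐ[L] K) → ∀ r : D →ₐ[L] K, r e = 0 := by
    intro K _ _ _ jS r
    obtain ⟨F, -⟩ := exists_diag_map (A := B) jS g
    obtain ⟨N, _, hN, ⟨E⟩, hcard⟩ := hfib K
    haveI := hN
    obtain ⟨hinj, -⟩ := bijective_of_card (Bialgebra.TensorProduct.map (BialgHom.id K K) φ) (hsurjK K) E F fun n hn => by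
      rw [hcard n hn, hM n hn]
    have h0 : (1 : K) ⊗ₜ[L] e = 0 := hinj (by
      rw [map_zero, Bialgebra.TensorProduct.map_tmul,
        show φ e = 0 from (show e ∈ RingHom.ker (φ : D →ₐ[L] B) by rw [hK]; exact Ideal.mem_span_singleton_self e),
        TensorProduct.tmul_zero])
    have h1 := congrArg (Algebra.TensorProduct.lift (AlgHom.id L K) r fun _ _ => .all _ _) h0
    rwa [Algebra.TensorProduct.lift_tmul, map_zero, map_one, one_mul] at h1
  have hnil : e ∈ nilradical D := by
    rw [nilradical_eq_sInf, Ideal.mem_sInf]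
    intro 𝔔 h𝔔
    haveI : 𝔔.IsPrime := h𝔔
    haveI : Nontrivial (𝔔.ResidueField ⊗[L] S) := inferInstance
    obtain ⟨m, hm⟩ := Ideal.exists_maximal (𝔔.ResidueField ⊗[L] S)
    letI := Ideal.Quotient.field m
    let j : 𝔔.ResidueField ⊗[L] S →ₐ[L] AlgebraicClosure ((𝔔.ResidueField ⊗[L] S) ⧸ m) :=
      (IsScalarTower.toAlgHom L _ _).comp (Ideal.Quotient.mkₐ L m)
    have h1 := vanish _ (j.comp Algebra.TensorProduct.includeRight)
      ((j.comp Algebra.TensorProduct.includeLeft).comp (IsScalarTower.toAlgHom L D 𝔔.ResidueField))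
    exact Ideal.algebraMap_residueField_eq_zero.1
      ((j.comp Algebra.TensorProduct.includeLeft).toRingHom.injective (h1.trans (map_zero _).symm))
  obtain ⟨k, hk⟩ := hnil
  cases k with
  | zero => rw [pow_zero] at hk; rw [← one_mul e, hk, zero_mul]
  | succ k => rw [← he.pow_succ_eq k]; exact hk

set_option maxHeartbeats 800000 in
set_option synthInstance.maxHeartbeats 200000 in
/-- The criterion at a point. -/
theorem isMultType_atPrime {R : Type u} [CommRing R] {C : Type u} [CommRing C] [HopfAlgebra R C] [Module.Flat R C]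
    [Algebra.FinitePresentation R C]
    (hs : ∀ (P : Ideal R) [P.IsPrime], SGA3b.IsMultType P.ResidueField (P.ResidueField ⊗[R] C))
    (p : Ideal R) [hp : p.IsPrime]
    (hord : ∀ (P : PrimeSpectrum R), P.asIdeal ≤ p → ∀ n, 0 < n → ord R C P n = ord R C ⟨p, hp⟩ n) :
    SGA3b.IsMultType (Localization.AtPrime p) (Localization.AtPrime p ⊗[R] C) := by
  obtain ⟨L, _, _, _, B, _, _, φ, e, hff, hB, hφ, he, hem, hK⟩ :=
    Groth.Agent.Lib.OT67.LocalCrit.exists_cover (R := Localization.AtPrime p) (C := Localization.AtPrime p ⊗[R] C)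
      (fun q _ _ => flat_atPrime q) (isMultType_closedFibre p (hs p))
  haveI := hff
  haveI : Algebra.FiniteType L (L ⊗[Localization.AtPrime p] (Localization.AtPrime p ⊗[R] C)) := Algebra.FiniteType.baseChange L
  have he0 : e = 0 := by
    refine idem_eq_zero_of_card φ hφ hB he hem hK (fun n => ord R C ⟨p, hp⟩ n) fun K _ _ _ => ?_
    letI : Algebra (Localization.AtPrime p) K := Algebra.compHom K (algebraMap (Localization.AtPrime p) L)
    haveI : IsScalarTower (Localization.AtPrime p) L K := IsScalarTower.of_algebraMap_eq fun _ => rfl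
    letI : Algebra R K := Algebra.compHom K (algebraMap R (Localization.AtPrime p))
    haveI : IsScalarTower R (Localization.AtPrime p) K := IsScalarTower.of_algebraMap_eq fun _ => rfl
    obtain ⟨U₁, -⟩ := exists_towerEquiv R (Localization.AtPrime p) K C
    obtain ⟨U₂, -⟩ := exists_towerEquiv (Localization.AtPrime p) L K (Localization.AtPrime p ⊗[R] C)
    obtain ⟨N, _, hN, ⟨E⟩, hcard⟩ := exists_fibre_point hs K
    refine ⟨N, inferInstance, hN, ⟨U₂.symm.trans (U₁.symm.trans E)⟩, fun n hn => ?_⟩
    rw [hcard n hn]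
    refine hord _ (fun r hr => ?_) n hn
    by_contra hrp
    exact (((IsLocalization.map_units (M := p.primeCompl) (Localization.AtPrime p) (⟨r, hrp⟩ : p.primeCompl)).map
      (algebraMap (Localization.AtPrime p) K)).ne_zero) (by rw [← IsScalarTower.algebraMap_apply]; exact hr)
  exact Groth.Agent.Lib.OT67.LocalCrit.isMultType_of_cover φ hφ hB (by rw [hK, he0, Ideal.span_singleton_eq_bot])

/-- The criterion. -/
theorem isMultType_of_ord {R : Type u} [CommRing R] {C : Type u} [CommRing C] [HopfAlgebra R C] [Module.Flat R C]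
    [Algebra.FinitePresentation R C]
    (hs : ∀ (P : Ideal R) [P.IsPrime], SGA3b.IsMultType P.ResidueField (P.ResidueField ⊗[R] C))
    (hord : ∀ n, 0 < n → IsLocallyConstant fun P : PrimeSpectrum R => ord R C P n) : SGA3b.IsMultType R C :=
  isMultType_of_local inferInstance fun p hp => isMultType_atPrime hs p fun P hP n hn =>
    (Specializes.map ((PrimeSpectrum.le_iff_specializes P ⟨p, hp⟩).1 hP) (hord n hn).continuous).eq

end

end Groth.Agent.Lib.MTBridge.Orders
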