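import Groth.Agent.Lib.MTBridge.TorsionKer
import Groth.Agent.Lib.MTBridge.Orders
import Groth.Agent.S5242

/-!
Groups with fibres of multiplicative type and locally constant orders of torsion.
-/

set_option autoImplicit false
set_option linter.style.haveILetI false

universe u

open CategoryTheory CategoryTheory.Limits MonoidalCategory CartesianMonoidalCategory MonObj GrpObj AlgebraicGeometry
open Groth.Agent.Lib.Tori
open scoped TensorProduct

namespace Groth.Agent.Lib.MTBridge

noncomputable section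

variable {S : Scheme.{u}}

/-- The residue field of a point as an algebra over an affine neighbourhood. -/
theorem exists_residue_lift {R : Type u} [CommRing R] (v : Spec (CommRingCat.of R) ⟶ S) [IsOpenImmersion v] (P : PrimeSpectrum R)
    (s : S) (hs : v.base P = s) :
    ∃ φ : R →+* S.residueField s, RingHom.ker φ = P.asIdeal ∧
      Spec.map (CommRingCat.ofHom φ) ≫ v = S.fromSpecResidueField s := by
  let w := IsOpenImmersion.lift v (S.fromSpecResidueField s) (by
    rw [Scheme.range_fromSpecResidueField, Set.singleton_subset_iff]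
    exact ⟨P, hs⟩)
  have hw : w ≫ v = S.fromSpecResidueField s := IsOpenImmersion.lift_fac _ _ _
  refine ⟨(Spec.preimage w).hom, ?_, by rw [CommRingCat.ofHom_hom, Spec.map_preimage, hw]⟩
  let x : Spec (S.residueField s) := IsLocalRing.closedPoint (S.residueField s)
  have h1 : v.base (w.base x) = v.base P := by
    refine (Scheme.Hom.comp_apply w v x).symm.trans ?_
    rw [hw, Scheme.fromSpecResidueField_apply, hs]
  have h2 : (Spec.map (Spec.preimage w)).base x = P := by
    rw [Spec.map_preimage]
    exact v.isOpenEmbedding.injective h1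
  rw [← h2]
  show RingHom.ker _ = Ideal.comap _ (IsLocalRing.maximalIdeal _)
  rw [IsLocalRing.maximalIdeal_eq_bot]
  rfl

set_option maxHeartbeats 800000 in
set_option synthInstance.maxHeartbeats 200000 in
/-- The base change of an affine chart to a field over a point. -/
theorem field_data (H : Over S) [GrpObj H]
    {R : Type u} [CommRing R] (v : Spec (CommRingCat.of R) ⟶ S)
    {C : Type u} [CommRing C] [HopfAlgebra R C] [Algebra.FinitePresentation R C]
    (e : Grp.mk (Red.bc v H) ≅ Grp.mk (GA R C)) (P : PrimeSpectrum R)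
    {κ : Type u} [Field κ] [Algebra R κ] (hφ : RingHom.ker (algebraMap R κ) = P.asIdeal)
    (t : Spec (CommRingCat.of κ) ⟶ S) (ht : Spec.map (CommRingCat.ofHom (algebraMap R κ)) ≫ v = t)
    (hmt : SGA3x.IsMultTypeFT (Red.bc (Spec.map (CommRingCat.ofHom (algebraMap κ (AlgebraicClosure κ))) ≫ t) H)) :
    SGA3b.IsMultType P.asIdeal.ResidueField (P.asIdeal.ResidueField ⊗[R] C) ∧
      ∀ n, 0 < n → ∀ x, (pullback.snd (kerMap n H) t).finrank x = Orders.ord R C P n := by
  let eκ : Grp.mk (Red.bc t H) ≅ Grp.mk (GA κ (κ ⊗[R] C)) :=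
    BaseChange.bcCongr ht.symm H ≪≫ BaseChange.bcComp _ v H ≪≫ BaseChange.bcMapIso _ e ≪≫ bcSpec κ
  let K := AlgebraicClosure κ
  have hK : SGA3b.IsMultType K (K ⊗[κ] (κ ⊗[R] C)) :=
    isMultType_of_field hmt (BaseChange.bcComp _ _ H ≪≫ BaseChange.bcMapIso _ eκ ≪≫ bcSpec K).symm
  have hκ : SGA3b.IsMultType κ (κ ⊗[R] C) := Groth.Agent.Lib.OT67.LocalCrit.isMultType_descend hK
  let ι' : P.asIdeal.ResidueField →ₐ[R] κ := Ideal.ResidueField.liftₐ P.asIdeal (Algebra.ofId R κ) hφ.ge
    (fun r hr => IsUnit.mk0 _ fun h => hr (hφ ▸ h))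
  letI : Algebra P.asIdeal.ResidueField κ := ι'.toRingHom.toAlgebra
  haveI : IsScalarTower R P.asIdeal.ResidueField κ := IsScalarTower.of_algebraMap_eq fun r => (ι'.commutes r).symm
  obtain ⟨U, -⟩ := Groth.Agent.H83.MultType.exists_towerEquiv R P.asIdeal.ResidueField κ C
  refine ⟨Groth.Agent.Lib.OT67.LocalCrit.isMultType_descend
    (Groth.Agent.Lib.OT67.LocalCrit.isMultType_of_equiv U hκ), fun n hn x => ?_⟩
  haveI : Algebra.FiniteType κ (κ ⊗[R] C) := Algebra.FiniteType.baseChange κ
  haveI : Coalgebra.IsCocomm κ (κ ⊗[R] C) := Groth.Agent.Lib.OT67.MultLift.isCocomm hκ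
  haveI := Groth.Agent.H83.Quasi.isHopfIdeal_torsionIdeal (R := κ) (A := κ ⊗[R] C) n
  haveI := (Groth.Agent.S5242.result κ (κ ⊗[R] C) inferInstance hκ n hn _ rfl).2
  let D := (κ ⊗[R] C) ⧸ SGA3b.torsionIdeal κ (κ ⊗[R] C) n
  obtain ⟨a, ha⟩ := exists_isPullback_kerMap n H t
  obtain ⟨i₁, hi₁⟩ := exists_iso_kerMap n eκ
  obtain ⟨i₂, hi₂⟩ := exists_iso_torsion (R := κ) (C := κ ⊗[R] C) n
  let j : Spec (CommRingCat.of D) ≅ pullback (kerMap n H) t := i₂ ≪≫ i₁.symm ≪≫ ha.isoPullback
  have hj : j.hom ≫ pullback.snd (kerMap n H) t = Spec.map (CommRingCat.ofHom (algebraMap κ D)) := by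
    show (i₂.hom ≫ i₁.inv ≫ ha.isoPullback.hom) ≫ pullback.snd _ _ = _
    rw [Category.assoc, Category.assoc, IsPullback.isoPullback_hom_snd, ← hi₁, Iso.inv_hom_id_assoc, hi₂]
  haveI hfin : IsFinite (Spec.map (CommRingCat.ofHom (algebraMap κ D))) := by
    rw [IsFinite.SpecMap_iff, CommRingCat.hom_ofHom, RingHom.finite_algebraMap]
    infer_instance
  haveI hflat : Flat (Spec.map (CommRingCat.ofHom (algebraMap κ D))) := by
    rw [HasRingHomProperty.Spec_iff (P := @Flat), CommRingCat.hom_ofHom, RingHom.flat_algebraMap_iff]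
    infer_instance
  have hfi : pullback.snd (kerMap n H) t = j.inv ≫ Spec.map (CommRingCat.ofHom (algebraMap κ D)) := by
    rw [← hj, Iso.inv_hom_id_assoc]
  rw [hfi, Scheme.Hom.finrank_comp_left_of_isIso j.inv]
  refine (Scheme.Hom.finrank_SpecMap_algebraMap κ D x).trans ?_
  refine (congrFun Module.rankAtStalk_eq_finrank_of_free x).trans ?_
  show Module.finrank κ D = _
  rw [← ((Algebra.TensorProduct.tensorQuotientEquiv (R := R) κ C κ (SGA3b.torsionIdeal R C n)).trans
    (Ideal.quotientEquivAlgOfEq κ (Groth.Agent.H83.Complete.torsion_baseChange κ n).symm)).toLinearEquiv.finrank_eq,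
    ← (Algebra.TensorProduct.cancelBaseChange R P.asIdeal.ResidueField κ κ (C ⧸ SGA3b.torsionIdeal R C n)).toLinearEquiv.finrank_eq,
    Module.finrank_baseChange]
  rfl

/-- The fibre of an affine chart at a point. -/
theorem fibre_data (H : Over S) [GrpObj H] (hfib : ∀ s : S, SGA3x.IsMultTypeFT (Red.geomFibre s H))
    {R : Type u} [CommRing R] (v : Spec (CommRingCat.of R) ⟶ S) [IsOpenImmersion v]
    {C : Type u} [CommRing C] [HopfAlgebra R C] [Algebra.FinitePresentation R C]
    (e : Grp.mk (Red.bc v H) ≅ Grp.mk (GA R C)) (P : PrimeSpectrum R) :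
    SGA3b.IsMultType P.asIdeal.ResidueField (P.asIdeal.ResidueField ⊗[R] C) ∧
      ∀ n, 0 < n → ∀ x, ((kerMap n H).fiberToSpecResidueField (v.base P)).finrank x = Orders.ord R C P n := by
  obtain ⟨φ, hφ, hφv⟩ := exists_residue_lift v P _ rfl
  letI : Algebra R (S.residueField (v.base P)) := φ.toAlgebra
  exact field_data H v e P hφ (S.fromSpecResidueField (v.base P)) hφv (hfib (v.base P))

set_option maxHeartbeats 800000 in
/-- Multiplicative type from the fibres and the orders of torsion. -/
theorem isMultTypeFT_of_orders (H : Over S) [GrpObj H] [IsAffineHom H.hom] [Flat H.hom] [LocallyOfFinitePresentation H.hom]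
    (hfib : ∀ s : S, SGA3x.IsMultTypeFT (Red.geomFibre s H))
    (hord : ∀ n : ℕ, 0 < n → ∃ d : S → ℕ, IsLocallyConstant d ∧ ∀ (s : S) (x : ↥(Spec (S.residueField s))),
      ((kerMap n H).fiberToSpecResidueField s).finrank x = d s) :
    SGA3x.IsMultTypeFT H := by
  refine isMultTypeFT_of_affine H fun s => ?_
  obtain ⟨V, hV, hsV, -⟩ := exists_isAffineOpen_mem_and_subset (X := S) (x := s) (U := ⊤) trivial
  let R : Type u := Γ(S, V)
  let v : Spec (CommRingCat.of R) ⟶ S := hV.fromSpec
  haveI : IsOpenImmersion v := inferInstanceAs (IsOpenImmersion hV.fromSpec)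
  haveI : IsAffineHom (Red.bc v H).hom := inferInstanceAs (IsAffineHom (pullback.snd H.hom v))
  haveI : IsAffine (Red.bc v H).left := isAffine_of_isAffineHom (Red.bc v H).hom
  obtain ⟨C, _, _, eC, heC⟩ := Groth.Agent.H1.Hopf.exists_iso (Red.bc v H)
  haveI := heC
  haveI : IsIso eC.inv.left := inferInstanceAs (IsIso ((Over.forget _).map eC.inv))
  haveI : Flat (Red.bc v H).hom := inferInstanceAs (Flat (pullback.snd H.hom v))
  haveI : LocallyOfFinitePresentation (Red.bc v H).hom := inferInstanceAs (LocallyOfFinitePresentation (pullback.snd H.hom v))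
  haveI : Module.Flat R C := by
    have h : Flat (Spec.map (CommRingCat.ofHom (algebraMap R C))) := by
      show Flat (GA R C).hom
      rw [← Over.w eC.inv]
      infer_instance
    rwa [HasRingHomProperty.Spec_iff (P := @Flat), CommRingCat.hom_ofHom, RingHom.flat_algebraMap_iff] at h
  haveI : Algebra.FinitePresentation R C := by
    have h : LocallyOfFinitePresentation (Spec.map (CommRingCat.ofHom (algebraMap R C))) := by
      show LocallyOfFinitePresentation (GA R C).hom
      rw [← Over.w eC.inv]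
      infer_instance
    rwa [HasRingHomProperty.Spec_iff (P := @LocallyOfFinitePresentation), CommRingCat.hom_ofHom,
      RingHom.finitePresentation_algebraMap] at h
  refine ⟨R, inferInstance, v, inferInstance, C, inferInstance, inferInstance, ?_, inferInstance, ?_, ⟨BaseChange.grpIso eC⟩⟩
  · show s ∈ Set.range hV.fromSpec.base
    rw [hV.range_fromSpec]
    exact hsV
  · have hdata := fun P => fibre_data H hfib v (BaseChange.grpIso eC) P
    refine Orders.isMultType_of_ord (fun P hP => (hdata ⟨P, hP⟩).1) fun n hn => ?_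
    obtain ⟨d, hd, hdx⟩ := hord n hn
    have h : (fun P : PrimeSpectrum R => Orders.ord R C P n) = d ∘ v.base := funext fun P => by
      exact (((hdata P).2 n hn (IsLocalRing.closedPoint (S.residueField (v.base P)))).symm.trans (hdx (v.base P) _))
    rw [h]
    exact hd.comp_continuous v.continuous

end

end Groth.Agent.Lib.MTBridge
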