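import Groth.Agent.Lib.MTBridge.SplitSub
import Groth.Agent.Lib.MTBridge.SpecHopf
import Groth.Agent.H87.MT
import Groth.Prelude.Def_SGA3x

/-!
Flat closed subgroups of groups of multiplicative type.
-/

set_option autoImplicit false
set_option linter.style.haveILetI false

universe u

open CategoryTheory CategoryTheory.Limits MonoidalCategory CartesianMonoidalCategory MonObj GrpObj AlgebraicGeometry
open Groth.Agent.Lib.Tori
open scoped TensorProduct

namespace Groth.Agent.Lib.MTBridge

noncomputable section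

/-- Lifting the type of a group algebra from `Type` to a higher universe. -/
theorem exists_ulift (R : Type u) [CommRing R] (M : Type) [CommGroup M] :
    Nonempty (MonoidAlgebra R (ULift.{u} M) ≃ₐc[R] MonoidAlgebra R M) :=
  Groth.Agent.H83.Quasi.exists_domainCongr R MulEquiv.ulift

set_option maxHeartbeats 1600000 in
set_option synthInstance.maxHeartbeats 200000 in
/-- A flat closed subgroup of `D_R(M)` is some `D(M')` near every point. -/
theorem exists_split_nhd {R : Type u} [CommRing R] {M : Type} [AddCommGroup M] [AddGroup.FG M]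
    (K : Over (Spec (CommRingCat.of R))) [GrpObj K] [IsAffine K.left] [Flat K.hom] [LocallyOfFinitePresentation K.hom]
    (j : K ⟶ Red.DS (Spec (CommRingCat.of R)) M) [IsMonHom j] [IsClosedImmersion j.left]
    (x : Spec (CommRingCat.of R)) :
    ∃ (T : Type u) (_ : CommRing T) (_ : Algebra R T) (M' : Type) (_ : AddCommGroup M'), AddGroup.FG M' ∧
      IsOpenImmersion (Spec.map (CommRingCat.ofHom (algebraMap R T))) ∧
      x ∈ Set.range (Spec.map (CommRingCat.ofHom (algebraMap R T))).base ∧
      Nonempty (Grp.mk (Red.bc (Spec.map (CommRingCat.ofHom (algebraMap R T))) K) ≅ Grp.mk (Red.DS (Spec (CommRingCat.of T)) M')) := by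
  obtain ⟨C, _, _, eC, heC⟩ := Groth.Agent.H1.Hopf.exists_iso K
  haveI := heC
  let δ := Groth.Agent.Lib.DiagGL.dsDiag R M
  let j' : GA R C ⟶ GA R (MonoidAlgebra R (Multiplicative M)) := eC.inv ≫ j ≫ δ.hom
  haveI hj' : IsMonHom j' := inferInstanceAs (IsMonHom (eC.inv ≫ j ≫ δ.hom))
  haveI : IsClosedImmersion j'.left := by
    haveI : IsIso eC.inv.left := inferInstanceAs (IsIso ((Over.forget _).map eC.inv))
    haveI : IsIso δ.hom.left := inferInstanceAs (IsIso ((Over.forget _).map δ.hom))
    show IsClosedImmersion (eC.inv.left ≫ j.left ≫ δ.hom.left)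
    infer_instance
  obtain ⟨π₀, hπ₀⟩ := exists_bialgHom j'
  have hsurj : Function.Surjective π₀ := by
    haveI : IsClosedImmersion (Spec.map (CommRingCat.ofHom (π₀ : MonoidAlgebra R (Multiplicative M) →+* C))) := hπ₀ ▸ ‹IsClosedImmersion j'.left›
    have h := (IsClosedImmersion.isAffine_surjective_of_isAffine (f := Spec.map (CommRingCat.ofHom (π₀ : MonoidAlgebra R (Multiplicative M) →+* C))) ).2
    intro c
    obtain ⟨a, ha⟩ := h ((Scheme.ΓSpecIso (CommRingCat.of C)).inv c)
    refine ⟨(Scheme.ΓSpecIso (CommRingCat.of (MonoidAlgebra R (Multiplicative M)))).hom a, ?_⟩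
    have h1 := congr($(Scheme.ΓSpecIso_naturality (CommRingCat.ofHom (π₀ : MonoidAlgebra R (Multiplicative M) →+* C))).hom a)
    simp only [CommRingCat.hom_comp, RingHom.comp_apply] at h1
    refine h1.symm.trans ?_
    rw [show (Spec.map (CommRingCat.ofHom (π₀ : MonoidAlgebra R (Multiplicative M) →+* C))).appTop.hom a = _ from ha]
    exact congr($((Scheme.ΓSpecIso (CommRingCat.of C)).inv_hom_id).hom c)
  haveI : IsIso eC.inv.left := inferInstanceAs (IsIso ((Over.forget _).map eC.inv))
  haveI : Module.Flat R C := by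
    have h : Flat (Spec.map (CommRingCat.ofHom (algebraMap R C))) := by
      show Flat (GA R C).hom
      rw [← Over.w eC.inv]
      infer_instance
    rwa [HasRingHomProperty.Spec_iff (P := @Flat), CommRingCat.hom_ofHom, RingHom.flat_algebraMap_iff] at h
  haveI : Algebra.FinitePresentation R C := by
    have h : LocallyOfFinitePresentation (Spec.map (CommRingCat.ofHom (algebraMap R C))) := by
      show LocallyOfFinitePresentation (GA R C).hom
      rw [← Over.w eC.inv]
      infer_instance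
    rwa [HasRingHomProperty.Spec_iff (P := @LocallyOfFinitePresentation), CommRingCat.hom_ofHom,
      RingHom.finitePresentation_algebraMap] at h
  let MU := ULift.{u} (Multiplicative M)
  obtain ⟨u₀⟩ := exists_ulift.{u} R (Multiplicative M)
  haveI : Group.FG MU := Group.fg_of_surjective (f := (MulEquiv.ulift.symm : Multiplicative M ≃* MU).toMonoidHom) (MulEquiv.surjective _)
  haveI : (x : PrimeSpectrum R).asIdeal.IsPrime := PrimeSpectrum.isPrime x
  obtain ⟨T, _, _, N, hopen, ⟨q, hq, hqx⟩, ⟨E⟩⟩ := SplitSub.exists_split (π₀.comp (u₀ : MonoidAlgebra R MU →ₐc[R] MonoidAlgebra R (Multiplicative M)))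
    (hsurj.comp (EquivLike.surjective u₀)) (x : PrimeSpectrum R).asIdeal
  let N₀ : AddSubgroup M := Subgroup.toAddSubgroup' (N.comap (MulEquiv.ulift.symm : Multiplicative M ≃* MU).toMonoidHom)
  let M' := M ⧸ N₀
  haveI : AddGroup.FG M' := AddGroup.fg_of_surjective (f := QuotientAddGroup.mk' N₀) (QuotientAddGroup.mk'_surjective _)
  let σ₀ : MU →* Multiplicative M' :=
    (AddMonoidHom.toMultiplicative (QuotientAddGroup.mk' N₀)).comp (MulEquiv.ulift : MU ≃* Multiplicative M).toMonoidHom
  have hσ₀ : σ₀.ker = N := by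
    ext m
    show Multiplicative.ofAdd (QuotientAddGroup.mk' N₀ (MulEquiv.ulift m).toAdd) = 1 ↔ m ∈ N
    rw [ofAdd_eq_one, QuotientAddGroup.mk'_apply, QuotientAddGroup.eq_zero_iff]
    exact Iff.rfl
  have hσs : Function.Surjective σ₀ := fun y => by
    obtain ⟨a, ha⟩ := QuotientAddGroup.mk'_surjective N₀ y.toAdd
    exact ⟨MulEquiv.ulift.symm (Multiplicative.ofAdd a), congrArg Multiplicative.ofAdd ha⟩
  obtain ⟨w⟩ := Groth.Agent.H83.Quasi.exists_domainCongr T
    ((QuotientGroup.quotientMulEquivOfEq hσ₀.symm).trans (QuotientGroup.quotientKerEquivOfSurjective σ₀ hσs))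
  refine ⟨T, inferInstance, inferInstance, M', inferInstance, inferInstance, hopen,
    ⟨⟨q, hq⟩, PrimeSpectrum.ext hqx⟩, ⟨?_⟩⟩
  exact BaseChange.bcMapIso _ (BaseChange.grpIso eC) ≪≫ bcSpec T ≪≫ (grpIsoOfEquiv (E.trans w)).symm ≪≫ (dsSpec T M').symm

set_option maxHeartbeats 800000 in
/-- A chart on an affine scheme gives charts of a flat closed subgroup. -/
theorem exists_chart {S : Scheme.{u}} {H H' : Over S} [GrpObj H] [GrpObj H'] (i : H ⟶ H') [IsMonHom i]
    [IsClosedImmersion i.left] [IsAffineHom H.hom] [Flat H.hom] [LocallyOfFinitePresentation H.hom]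
    {R : Type u} [CommRing R] {M : Type} [AddCommGroup M] [AddGroup.FG M] (t : Spec (CommRingCat.of R) ⟶ S)
    (e : Grp.mk (Red.bc t H') ≅ Grp.mk (Red.DS (Spec (CommRingCat.of R)) M)) (x : Spec (CommRingCat.of R)) :
    ∃ (T : Type u) (_ : CommRing T) (w : Spec (CommRingCat.of T) ⟶ Spec (CommRingCat.of R)) (_ : IsOpenImmersion w)
      (M' : Type) (_ : AddCommGroup M'), AddGroup.FG M' ∧ x ∈ Set.range w.base ∧
      Nonempty (Grp.mk (Red.bc (w ≫ t) H) ≅ Grp.mk (Red.DS (Spec (CommRingCat.of T)) M')) := by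
  let K := Red.bc t H
  haveI hK1 : IsAffineHom K.hom := inferInstanceAs (IsAffineHom (pullback.snd H.hom t))
  haveI : IsAffine K.left := isAffine_of_isAffineHom K.hom
  haveI : Flat K.hom := inferInstanceAs (Flat (pullback.snd H.hom t))
  haveI : LocallyOfFinitePresentation K.hom := inferInstanceAs (LocallyOfFinitePresentation (pullback.snd H.hom t))
  let j : K ⟶ Red.DS (Spec (CommRingCat.of R)) M := (Over.pullback t).map i ≫ (BaseChange.overIso e).hom
  haveI : IsMonHom j := inferInstanceAs (IsMonHom ((Over.pullback t).map i ≫ (BaseChange.overIso e).hom))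
  haveI : IsClosedImmersion j.left := by
    haveI : IsClosedImmersion ((Over.pullback t).map i).left :=
      Groth.Agent.H87.Charts.fib_of @IsClosedImmersion t i inferInstance
    haveI : IsIso (BaseChange.overIso e).hom.left := inferInstanceAs (IsIso ((Over.forget _).map (BaseChange.overIso e).hom))
    show IsClosedImmersion (((Over.pullback t).map i).left ≫ (BaseChange.overIso e).hom.left)
    infer_instance
  obtain ⟨T, _, _, M', _, hM', hopen, hx, ⟨E⟩⟩ := exists_split_nhd K j x
  exact ⟨T, inferInstance, _, hopen, M', inferInstance, hM', hx, ⟨BaseChange.bcComp _ t H ≪≫ E⟩⟩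

/-- A chart on an open immersion gives a chart on its image. -/
theorem exists_opens {S S' : Scheme.{u}} (f : S' ⟶ S) (H : Over S) [GrpObj H] {M : Type} [AddCommGroup M]
    {X : Scheme.{u}} (a : X ⟶ S') [IsOpenImmersion a] (e : Grp.mk (Red.bc (a ≫ f) H) ≅ Grp.mk (Red.DS X M)) :
    Nonempty (Grp.mk (Red.bc (a.opensRange.ι ≫ f) H) ≅ Grp.mk (Red.DS (a.opensRange : Scheme.{u}) M)) := by
  have ha : a.isoOpensRange.inv ≫ a = a.opensRange.ι := by
    rw [Iso.inv_comp_eq]
    exact (Scheme.Hom.isoOpensRange_hom_ι a).symm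
  exact ⟨BaseChange.bcCongr (by rw [← ha, Category.assoc]) H ≪≫ Groth.Agent.H87.Charts.resChart e a.isoOpensRange.inv⟩

/-- A flat closed subgroup of a group of multiplicative type is of multiplicative type. -/
theorem isMultTypeFT_closedSub {S : Scheme.{u}} (H H' : Over S) [GrpObj H] [GrpObj H']
    (hH' : SGA3x.IsMultTypeFT H') (i : H ⟶ H') [IsMonHom i] [IsClosedImmersion i.left]
    [Flat H.hom] [LocallyOfFinitePresentation H.hom] : SGA3x.IsMultTypeFT H := by
  haveI := Groth.Agent.H87.MT.isAffineHom hH'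
  haveI : IsAffineHom H.hom := by rw [← Over.w i]; infer_instance
  obtain ⟨S', f, hf, hs, hc, hloc⟩ := hH'
  refine ⟨S', f, hf, hs, hc, fun s' => ?_⟩
  obtain ⟨U, hU, M, _, hM, ⟨e⟩⟩ := hloc s'
  haveI := hM
  obtain ⟨V, hV, hsV, hVU⟩ := exists_isAffineOpen_mem_and_subset (X := S') (x := s') (U := U) hU
  let k : Spec Γ(S', V) ⟶ (U : Scheme.{u}) := IsOpenImmersion.lift U.ι hV.fromSpec (by
    rw [Scheme.Opens.range_ι, hV.range_fromSpec]
    exact hVU)
  have hk : k ≫ U.ι = hV.fromSpec := IsOpenImmersion.lift_fac _ _ _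
  obtain ⟨y, hy⟩ : s' ∈ Set.range hV.fromSpec.base := by rw [hV.range_fromSpec]; exact hsV
  obtain ⟨T, _, w, _, M', _, hM', ⟨q, hq⟩, ⟨E⟩⟩ := exists_chart (R := Γ(S', V)) i (k ≫ U.ι ≫ f)
    (Groth.Agent.H87.Charts.resChart e k) y
  obtain ⟨E'⟩ := exists_opens f H (w ≫ hV.fromSpec) (BaseChange.bcCongr (by rw [Category.assoc, ← hk, Category.assoc]) H ≪≫ E)
  exact ⟨(w ≫ hV.fromSpec).opensRange, ⟨q, by rw [Scheme.Hom.comp_apply, hq, hy]⟩, M', inferInstance, hM', ⟨E'⟩⟩

end

end Groth.Agent.Lib.MTBridge
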