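import Groth.Agent.Lib.OT67.LocalCrit
import Groth.Agent.S5242
import Mathlib

/-!
Flat closed subgroups of diagonalisable groups are of multiplicative type and split Zariski locally.
-/

open TensorProduct Groth.Agent.H83.MultType Groth.Agent.H83.Quasi

set_option linter.style.haveILetI false

universe u

namespace Groth.Agent.Lib.MTBridge.SplitSub

noncomputable section

theorem isCocomm_of_surjective {R : Type u} [CommRing R] {A B : Type u} [CommRing A] [Bialgebra R A] [CommRing B]
    [Bialgebra R B] [Coalgebra.IsCocomm R A] (π : A →ₐc[R] B) (hπ : Function.Surjective π) :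
    Coalgebra.IsCocomm R B := by
  refine ⟨LinearMap.ext fun b => ?_⟩
  obtain ⟨a, rfl⟩ := hπ b
  show TensorProduct.comm R B B (CoalgebraStruct.comul (R := R) (π a)) = CoalgebraStruct.comul (R := R) (π a)
  rw [← CoalgHomClass.map_comp_comul_apply π, ← TensorProduct.map_comm, Coalgebra.comm_comul]

theorem isMultType_monoidAlgebra (R : Type u) [CommRing R] (M : Type u) [CommGroup M] :
    SGA3b.IsMultType R (MonoidAlgebra R M) :=
  isMultType_of_diag R ⟨M, inferInstance, ⟨Bialgebra.TensorProduct.lid R (MonoidAlgebra R M)⟩⟩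

set_option maxHeartbeats 800000 in
set_option synthInstance.maxHeartbeats 200000 in
/-- A flat finitely presented quotient of a group algebra is of multiplicative type. -/
theorem isMultType_of_quotient {R : Type u} [CommRing R] {M : Type u} [CommGroup M] [Group.FG M] {C : Type u} [CommRing C]
    [HopfAlgebra R C] [Module.Flat R C] [Algebra.FinitePresentation R C] (π : MonoidAlgebra R M →ₐc[R] C)
    (hπ : Function.Surjective π) : SGA3b.IsMultType R C := by
  haveI : Coalgebra.IsCocomm R C := isCocomm_of_surjective π hπ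
  refine isMultType_of_torsion inferInstance (fun R' _ _ C' _ _ _ hfp hfl hs hfin => by
    haveI := hfp
    exact Groth.Agent.Lib.OT67.LocalCrit.isMultType_torsion hfl hs hfin) ?_ ?_
  · intro p _
    let κ := p.ResidueField
    obtain ⟨ψ, hψ⟩ := exists_baseChange_presentation (R := R) (S := R)
      (Bialgebra.TensorProduct.lid R (MonoidAlgebra R M)) κ
    let π' : κ ⊗[R] MonoidAlgebra R M →ₐc[κ] κ ⊗[R] C := Bialgebra.TensorProduct.map (BialgHom.id κ κ) π
    have hπ' : Function.Surjective π' := fun z => by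
      induction z using TensorProduct.induction_on with
      | zero => exact ⟨0, map_zero _⟩
      | add a b ha hb =>
        obtain ⟨x, rfl⟩ := ha; obtain ⟨y, rfl⟩ := hb
        exact ⟨x + y, map_add _ x y⟩
      | tmul t c =>
        obtain ⟨a, rfl⟩ := hπ c
        exact ⟨t ⊗ₜ a, by simp [π']⟩
    obtain ⟨Q, _, q, -, ⟨e⟩⟩ := exists_quotient_group (π'.comp ψ) (hπ'.comp hψ)
    exact Groth.Agent.Lib.OT67.LocalCrit.isMultType_of_equiv e.symm (isMultType_monoidAlgebra κ Q)
  · intro n hn
    haveI : Monoid.FG M := Group.fg_iff_monoid_fg.mp inferInstance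
    haveI := Groth.Agent.H83.Quasi.isHopfIdeal_torsionIdeal (R := R) (A := MonoidAlgebra R M) n
    haveI := (Groth.Agent.S5242.result R (MonoidAlgebra R M) inferInstance (isMultType_monoidAlgebra R M) n hn _ rfl).2
    refine Module.Finite.of_surjective (Ideal.quotientMapₐ (I := SGA3b.torsionIdeal R (MonoidAlgebra R M) n)
      (SGA3b.torsionIdeal R C n) (π : MonoidAlgebra R M →ₐ[R] C)
      (Ideal.map_le_iff_le_comap.mp (Groth.Agent.H83.Complete.map_torsion_le π n))).toLinearMap fun y => ?_
    obtain ⟨c, rfl⟩ := Ideal.Quotient.mk_surjective y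
    obtain ⟨a, rfl⟩ := hπ c
    exact ⟨Ideal.Quotient.mk _ a, rfl⟩

theorem fg_subgroup {M : Type u} [CommGroup M] [Group.FG M] (N : Subgroup M) : N.FG := by
  haveI : AddGroup.FG (Additive M) := inferInstance
  haveI : Module.Finite ℤ (Additive M) := Module.Finite.iff_addGroup_fg.2 inferInstance
  rw [Subgroup.fg_iff_add_fg]
  have h : (AddSubgroup.toIntSubmodule N.toAddSubgroup).FG := IsNoetherian.noetherian _
  rwa [Submodule.fg_iff_addSubgroup_fg] at h

theorem coeffAt_sub_one_eq {L : Type u} [CommRing L] {P : Type u} [CommGroup P] {p : P} (hp : p ≠ 1) :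
    coeffAt L p (1 : MonoidAlgebra L P) = 0 := by
  classical
  rw [MonoidAlgebra.one_def, coeffAt_single, if_neg (Ne.symm hp)]

/-- The character with values in an extension of scalars. -/
def charHom {R : Type u} [CommRing R] {M : Type u} [CommGroup M] {C : Type u} [CommRing C] [Algebra R C]
    (π : MonoidAlgebra R M →ₐ[R] C) (T : Type u) [CommRing T] [Algebra R T] : M →* T ⊗[R] C :=
  (Algebra.TensorProduct.includeRight : C →ₐ[R] T ⊗[R] C).toMonoidHom.comp
    (π.toMonoidHom.comp (MonoidAlgebra.of R M))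

theorem charHom_apply {R : Type u} [CommRing R] {M : Type u} [CommGroup M] {C : Type u} [CommRing C] [Algebra R C]
    (π : MonoidAlgebra R M →ₐ[R] C) (T : Type u) [CommRing T] [Algebra R T] (m : M) :
    charHom π T m = (1 : T) ⊗ₜ[R] π (MonoidAlgebra.single m 1) := rfl

set_option maxHeartbeats 1600000 in
set_option synthInstance.maxHeartbeats 200000 in
/-- A flat finitely presented quotient of a group algebra is a group algebra near every point. -/
theorem exists_split {R : Type u} [CommRing R] {M : Type u} [CommGroup M] [Group.FG M] {C : Type u} [CommRing C]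
    [HopfAlgebra R C] [Module.Flat R C] [Algebra.FinitePresentation R C] (π : MonoidAlgebra R M →ₐc[R] C)
    (hπ : Function.Surjective π) (p : Ideal R) [p.IsPrime] :
    ∃ (T : Type u) (_ : CommRing T) (_ : Algebra R T) (N : Subgroup M),
      AlgebraicGeometry.IsOpenImmersion (AlgebraicGeometry.Spec.map (CommRingCat.ofHom (algebraMap R T))) ∧
      (∃ q : Ideal T, q.IsPrime ∧ q.comap (algebraMap R T) = p) ∧
      Nonempty ((T ⊗[R] C) ≃ₐc[T] MonoidAlgebra T (M ⧸ N)) := by
  classical
  obtain ⟨s, hs, hc⟩ := isMultType_of_quotient π hπ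
  obtain ⟨f, hf, hfp⟩ : ∃ f ∈ s, f ∉ p := by
    by_contra hcon
    push Not at hcon
    exact ‹p.IsPrime›.ne_top (top_le_iff.1 (hs ▸ Ideal.span_le.2 hcon))
  obtain ⟨S, _, _, hff, P, _, ⟨e₀⟩⟩ := hc f hf
  haveI := hff
  let R₀ := Localization.Away f
  letI : Algebra R S := Algebra.compHom S (algebraMap R R₀)
  haveI : IsScalarTower R R₀ S := IsScalarTower.of_algebraMap_eq fun _ => rfl
  obtain ⟨T₀, -⟩ := exists_towerEquiv R R₀ S C
  let e : (S ⊗[R] C) ≃ₐc[S] MonoidAlgebra S P := T₀.trans e₀
  let κ := p.ResidueField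
  have hκ : ∀ r : R, r ∉ p → IsUnit (algebraMap R κ r) := fun r hr =>
    IsUnit.mk0 _ fun h => hr (Ideal.algebraMap_residueField_eq_zero.mp h)
  let ρ₀ : R₀ →ₐ[R] κ := IsLocalization.liftAlgHom (M := Submonoid.powers f) (f := Algebra.ofId R κ) fun y => by
    obtain ⟨_, k, rfl⟩ := y
    show IsUnit (algebraMap R κ (f ^ k))
    rw [map_pow]
    exact (hκ f hfp).pow k
  letI : Algebra R₀ κ := ρ₀.toRingHom.toAlgebra
  haveI : IsScalarTower R R₀ κ := IsScalarTower.of_algebraMap_eq fun r => (ρ₀.commutes r).symm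
  obtain ⟨L, _, _, hflat₀, _, ι, K, _, _, ρ', σ', hρ⟩ := exists_localPoint R₀ κ S
  letI : Algebra R L := Algebra.compHom L (algebraMap R R₀)
  haveI : IsScalarTower R R₀ L := IsScalarTower.of_algebraMap_eq fun _ => rfl
  haveI : Module.Flat R L := Module.Flat.trans R R₀ L
  letI : Algebra R K := Algebra.compHom K (algebraMap R R₀)
  haveI : IsScalarTower R R₀ K := IsScalarTower.of_algebraMap_eq fun _ => rfl
  let ρ : L →ₐ[R] K := ρ'.restrictScalars R
  let σ : κ →ₐ[R] K := σ'.restrictScalars R
  obtain ⟨eL, -⟩ := exists_diag_map (A := C) (ι.restrictScalars R) e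
  let g : M → C := fun m => π (MonoidAlgebra.single m 1)
  let πa : MonoidAlgebra R M →ₐ[R] C := (π : MonoidAlgebra R M →ₐ[R] C)
  have hgl : ∀ m, IsGroupLikeElem R (g m) := fun m => (groupLike_single m).map π
  choose θ hθ using fun m => groupLike_eq_single ((groupLike_baseChange L (hgl m)).map eL)
  have hθmul : ∀ a b, θ (a * b) = θ a * θ b := fun a b => single_eq_single (S := L) (by
    rw [← hθ, show (MonoidAlgebra.single (θ a * θ b) (1 : L)) = MonoidAlgebra.single (θ a) 1 * MonoidAlgebra.single (θ b) 1 by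
      rw [MonoidAlgebra.single_mul_single, mul_one], ← hθ, ← hθ, ← map_mul, Algebra.TensorProduct.tmul_mul_tmul, mul_one,
      show g (a * b) = g a * g b by rw [← map_mul π, MonoidAlgebra.single_mul_single, mul_one]])
  let θh : M →* P := MonoidHom.mk' θ hθmul
  let N : Subgroup M := (charHom πa κ).ker
  have hN : ∀ m, m ∈ N ↔ (1 : κ) ⊗ₜ[R] g m = (1 : κ ⊗[R] C) := fun m => Iff.rfl
  -- the two kernels agree
  have hker : ∀ m, m ∈ N ↔ θ m = 1 := fun m => by
    rw [hN]
    constructor
    · intro h
      by_contra hne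
      let ξ : C →ₗ[R] K := ρ.toLinearMap ∘ₗ ((coeffAt L (θ m)).restrictScalars R) ∘ₗ
        ((eL : (L ⊗[R] C) →ₐc[L] MonoidAlgebra L P).toLinearMap.restrictScalars R) ∘ₗ TensorProduct.mk R L C 1
      let Ξ : κ ⊗[R] C →ₗ[R] K := LinearMap.mul' R K ∘ₗ TensorProduct.map σ.toLinearMap ξ
      have h1 := congrArg Ξ h
      rw [Algebra.TensorProduct.one_def] at h1
      simp only [Ξ, ξ, LinearMap.comp_apply, TensorProduct.map_tmul, LinearMap.mul'_apply, TensorProduct.mk_apply,
        AlgHom.toLinearMap_apply, map_one, one_mul, LinearMap.coe_restrictScalars] at h1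
      change ρ (coeffAt L (θ m) (eL ((1 : L) ⊗ₜ[R] g m))) = ρ (coeffAt L (θ m) (eL (1 : L ⊗[R] C))) at h1
      rw [hθ, map_one, coeffAt_sub_one_eq hne, coeffAt_single, if_pos rfl, map_one, map_zero] at h1
      exact one_ne_zero h1
    · intro h
      have h0 : (1 : L) ⊗ₜ[R] (g m - 1) = 0 := EquivLike.injective eL (by
        rw [map_zero, TensorProduct.tmul_sub, map_sub, hθ, h, ← Algebra.TensorProduct.one_def, map_one,
          MonoidAlgebra.one_def, sub_self])
      obtain ⟨r, hr, hrg⟩ := exists_smul_eq_zero (ρ : L →+* K) h0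
      have hrp : r ∉ p := fun hr' => hr (by
        rw [RingHom.coe_coe, AlgHom.commutes, ← σ.commutes, Ideal.algebraMap_residueField_eq_zero.mpr hr', map_zero])
      have h2 : algebraMap R κ r • ((1 : κ) ⊗ₜ[R] (g m - 1)) = 0 := by
        rw [algebraMap_smul, ← TensorProduct.tmul_smul, hrg, TensorProduct.tmul_zero]
      rw [(hκ r hrp).smul_eq_zero, TensorProduct.tmul_sub, ← Algebra.TensorProduct.one_def, sub_eq_zero] at h2
      exact h2
  have hkill : ∀ m ∈ N, ∃ r : R, ρ (algebraMap R L r) ≠ 0 ∧ r • (g m - 1) = 0 := fun m hm => by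
    refine exists_smul_eq_zero (ρ : L →+* K) (EquivLike.injective eL ?_)
    rw [map_zero, TensorProduct.tmul_sub, map_sub, hθ, (hker m).1 hm, ← Algebra.TensorProduct.one_def, map_one,
      MonoidAlgebra.one_def, sub_self]
  obtain ⟨gen, hgen⟩ := fg_subgroup N
  choose r hr hrg using hkill
  let h₁ : R := ∏ m ∈ gen.attach, r m.1 (hgen ▸ Subgroup.subset_closure m.2)
  have hh₁ : ρ (algebraMap R L h₁) ≠ 0 := by
    rw [map_prod, map_prod]
    exact Finset.prod_ne_zero_iff.mpr fun m _ => hr _ _
  let R₁ := Localization.Away h₁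
  let γ₁ : M →* R₁ ⊗[R] C := charHom πa R₁
  have hNle : N ≤ γ₁.ker := by
    rw [← hgen, Subgroup.closure_le]
    intro m hm
    show (1 : R₁) ⊗ₜ[R] g m = 1
    rw [← sub_eq_zero, Algebra.TensorProduct.one_def, ← TensorProduct.tmul_sub, away_tmul_eq_zero_iff]
    refine ⟨1, ?_⟩
    obtain ⟨c, hc⟩ := Finset.dvd_prod_of_mem (fun m : {m // m ∈ gen} => r m.1 (hgen ▸ Subgroup.subset_closure m.2))
      (Finset.mem_attach gen ⟨m, hm⟩)
    rw [pow_one, show h₁ = _ from hc, mul_comm, mul_smul, hrg, smul_zero]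
  let Q := M ⧸ N
  let γb : Q →* R₁ ⊗[R] C := QuotientGroup.lift N γ₁ hNle
  have hγgl : ∀ x, IsGroupLikeElem R₁ (γb x) := fun x => by
    induction x using QuotientGroup.induction_on with
    | H m => exact groupLike_baseChange R₁ (hgl m)
  let ψa : MonoidAlgebra R₁ Q →ₐ[R₁] R₁ ⊗[R] C := MonoidAlgebra.lift R₁ _ Q γb
  let ψ : MonoidAlgebra R₁ Q →ₐc[R₁] R₁ ⊗[R] C := BialgHom.ofAlgHom ψa
    (by
      ext q
      simp [ψa, (hγgl q).counit_eq_one])
    (by
      ext q
      simp [ψa, (hγgl q).comul_eq_tmul_self])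
  -- bijectivity at the point
  let jL : R₁ →ₐ[R] L := IsLocalization.liftAlgHom (M := Submonoid.powers h₁) (f := Algebra.ofId R L) fun y => by
    obtain ⟨_, k, rfl⟩ := y
    show IsUnit (algebraMap R L (h₁ ^ k))
    rw [map_pow]
    exact (hρ _ hh₁).pow k
  letI : Algebra R₁ L := jL.toRingHom.toAlgebra
  haveI : IsScalarTower R R₁ L := IsScalarTower.of_algebraMap_eq fun a => (jL.commutes a).symm
  haveI : Module.Flat R₁ L := (Module.flat_iff_of_isLocalization R₁ (Submonoid.powers h₁) L).mpr inferInstance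
  obtain ⟨T₁, hT₁⟩ := exists_towerEquiv R R₁ L C
  let θb : Q →* P := QuotientGroup.lift N θh fun m hm => (hker m).1 hm
  have hsur : Function.Surjective θh := fun x => by
    have hrange : ∀ z : L ⊗[R] C, eL z ∈ (MonoidAlgebra.mapDomainAlgHom L L θh).range := fun z => by
      induction z using TensorProduct.induction_on with
      | zero => rw [map_zero]; exact zero_mem _
      | add a b ha hb => rw [map_add]; exact add_mem ha hb
      | tmul l c =>
        obtain ⟨a, rfl⟩ := hπ c
        induction a using MonoidAlgebra.induction_linear with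
        | zero => rw [map_zero, TensorProduct.tmul_zero, map_zero]; exact zero_mem _
        | add a b ha hb => rw [map_add, TensorProduct.tmul_add, map_add]; exact add_mem ha hb
        | single m c =>
          refine ⟨MonoidAlgebra.single m (l * algebraMap R L c), ?_⟩
          rw [AlgHom.toRingHom_eq_coe, RingHom.coe_coe, MonoidAlgebra.mapDomainAlgHom_apply, MonoidAlgebra.mapDomain_single,
            show π (MonoidAlgebra.single m c) = c • g m by
              rw [← map_smul π, MonoidAlgebra.smul_single, smul_eq_mul, mul_one],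
            show l ⊗ₜ[R] (c • g m) = (l * algebraMap R L c) • ((1 : L) ⊗ₜ[R] g m) by
              rw [TensorProduct.tmul_smul, TensorProduct.smul_tmul', TensorProduct.smul_tmul', smul_eq_mul, mul_one,
                Algebra.smul_def, mul_comm],
            map_smul, hθ, MonoidAlgebra.smul_single, smul_eq_mul, mul_one]
          rfl
    obtain ⟨w, hw⟩ := hrange (eL.symm (MonoidAlgebra.single x 1))
    rw [show eL (eL.symm _) = MonoidAlgebra.single x (1 : L) from eL.apply_symm_apply _] at hw
    by_contra hx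
    have h1 := congrArg (coeffAt L x) hw
    rw [coeffAt_single, if_pos rfl] at h1
    refine one_ne_zero (h1.symm.trans ?_)
    clear hw h1
    induction w using MonoidAlgebra.induction_linear with
    | zero => rw [map_zero, map_zero]
    | add a b ha hb => rw [map_add, map_add, ha, hb, add_zero]
    | single m c =>
      rw [AlgHom.toRingHom_eq_coe, RingHom.coe_coe, MonoidAlgebra.mapDomainAlgHom_apply, MonoidAlgebra.mapDomain_single,
        coeffAt_single, if_neg fun hxm => hx ⟨m, hxm⟩]
  have hθb : Function.Bijective θb := by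
    refine ⟨(injective_iff_map_eq_one θb).mpr fun x => ?_, fun x => ?_⟩
    · induction x using QuotientGroup.induction_on with
      | H m => exact fun h => (QuotientGroup.eq_one_iff m).mpr ((hker m).2 h)
    · obtain ⟨m, rfl⟩ := hsur x
      exact ⟨QuotientGroup.mk m, rfl⟩
  have hbij : Function.Bijective (Algebra.TensorProduct.map (AlgHom.id L L) ψa) := by
    let u : L ⊗[R₁] MonoidAlgebra R₁ Q ≃ₐ[L] MonoidAlgebra L Q := MonoidAlgebra.scalarTensorEquiv R₁ L
    let v : L ⊗[R₁] (R₁ ⊗[R] C) ≃ₐ[L] MonoidAlgebra L P := T₁.symm.toAlgEquiv.trans eL.toAlgEquiv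
    obtain ⟨w⟩ := exists_domainCongr L (MulEquiv.ofBijective θb hθb)
    have hw : v.toAlgHom.comp ((Algebra.TensorProduct.map (AlgHom.id L L) ψa).comp u.symm.toAlgHom) =
        MonoidAlgebra.mapDomainAlgHom L L θb := by
      refine MonoidAlgebra.algHom_ext (fun x => ?_) (Subsingleton.elim _ _)
      induction x using QuotientGroup.induction_on with
      | H m =>
        have hu : u.symm (MonoidAlgebra.single (QuotientGroup.mk m : Q) (1 : L)) =
            (1 : L) ⊗ₜ[R₁] MonoidAlgebra.single (QuotientGroup.mk m : Q) (1 : R₁) := by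
          rw [AlgEquiv.symm_apply_eq]
          simp [u]
        show v (Algebra.TensorProduct.map (AlgHom.id L L) ψa (u.symm (MonoidAlgebra.single _ 1))) = _
        rw [hu, Algebra.TensorProduct.map_tmul, MonoidAlgebra.mapDomainAlgHom_apply, MonoidAlgebra.mapDomain_single,
          AlgHom.id_apply, MonoidAlgebra.lift_single, one_smul]
        show eL (T₁.symm ((1 : L) ⊗ₜ[R₁] ((1 : R₁) ⊗ₜ[R] g m))) = _
        rw [← hT₁, T₁.symm_apply_apply, hθ]
        rfl
    have hb : Function.Bijective (MonoidAlgebra.mapDomainAlgHom L L θb) :=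
      ⟨MonoidAlgebra.mapDomain_injective hθb.1, fun y => by
        induction y using MonoidAlgebra.induction_linear with
        | zero => exact ⟨0, map_zero _⟩
        | add a b ha hb =>
          obtain ⟨x, rfl⟩ := ha; obtain ⟨z, rfl⟩ := hb
          exact ⟨x + z, map_add _ x z⟩
        | single m c =>
          obtain ⟨q, rfl⟩ := hθb.2 m
          exact ⟨MonoidAlgebra.single q c, by simp⟩⟩
    have h3 : ⇑(Algebra.TensorProduct.map (AlgHom.id L L) ψa) = v.symm ∘ MonoidAlgebra.mapDomainAlgHom L L θb ∘ u := by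
      funext z
      rw [Function.comp_apply, Function.comp_apply, ← hw]
      simp
    rw [h3]
    exact v.symm.bijective.comp (hb.comp u.bijective)
  haveI : Algebra.FinitePresentation R₁ (MonoidAlgebra R₁ Q) := finitePresentation_monoidAlgebra R₁ Q
  obtain ⟨a, ha, hTb⟩ := exists_bijective_away ψa (L := L) (ρ : L →+* K) hbij
  let T := Localization.Away a
  let jT : T →+* L := IsLocalization.Away.lift a (g := algebraMap R₁ L) (hρ _ ha)
  refine ⟨T, inferInstance, inferInstance, N, ?_, ⟨RingHom.ker ((ρ : L →+* K).comp jT), RingHom.ker_isPrime _, ?_⟩, ?_⟩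
  · rw [IsScalarTower.algebraMap_eq R R₁ T, CommRingCat.ofHom_comp,
      AlgebraicGeometry.Spec.map_comp]
    haveI := AlgebraicGeometry.IsOpenImmersion.of_isLocalization (S := R₁) h₁
    haveI := AlgebraicGeometry.IsOpenImmersion.of_isLocalization (S := T) a
    infer_instance
  · ext x
    rw [Ideal.mem_comap, RingHom.mem_ker, RingHom.comp_apply, IsScalarTower.algebraMap_apply R R₁ T,
      show jT (algebraMap R₁ T (algebraMap R R₁ x)) = algebraMap R₁ L (algebraMap R R₁ x) from IsLocalization.Away.lift_eq a _ _,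
      ← IsScalarTower.algebraMap_apply, RingHom.coe_coe, AlgHom.commutes, ← σ.commutes, map_eq_zero,
      Ideal.algebraMap_residueField_eq_zero]
  · let Ψ : (T ⊗[R₁] MonoidAlgebra R₁ Q) ≃ₐc[T] T ⊗[R₁] (R₁ ⊗[R] C) :=
      BialgEquiv.ofBijective (Bialgebra.TensorProduct.map (BialgHom.id T T) ψ) (by
        refine (?_ : ⇑(Bialgebra.TensorProduct.map (BialgHom.id T T) ψ) = ⇑(Algebra.TensorProduct.map (AlgHom.id T T) ψa)) ▸ hTb
        funext z
        induction z using TensorProduct.induction_on with
        | zero => simp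
        | add a b ha hb => simp only [map_add, ha, hb]
        | tmul a b => rfl)
    obtain ⟨d, -⟩ := exists_diag_map (A := MonoidAlgebra R₁ Q) (Algebra.ofId R₁ T)
      (Bialgebra.TensorProduct.lid R₁ (MonoidAlgebra R₁ Q))
    obtain ⟨T₂, -⟩ := exists_towerEquiv R R₁ T C
    exact ⟨(T₂.trans Ψ.symm).trans d⟩

end

end Groth.Agent.Lib.MTBridge.SplitSub
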